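import Cfsg.Agent.H721.FR.Base
import Cfsg.Agent.H721.SR.DecF_m3
import Cfsg.Agent.H138.FR.Uni_m3
import Cfsg.Agent.HexModel.Main_m3
import Cfsg.Prelude.Def_LieChev
import Cfsg.Prelude.Def_LieTwisted
import Cfsg.Agent.H955.FSClifford_mg
import Cfsg.Agent.S0876
import Cfsg.Agent.CharDeep.LinearChar
import Cfsg.Agent.CharDeep.DegreeBound
import Cfsg.Agent.Characters.DegreeBounds
import Cfsg.Agent.Characters.Linear
import Cfsg.Agent.Characters.Values
import Cfsg.Agent.H473.SR.Row_mg_m3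
import Cfsg.Agent.H955.FSAmb
import Cfsg.Agent.S0188
import Cfsg.Agent.Characters.CNBasic
import Cfsg.Prelude.Def_Classification2
import Cfsg.Agent.H116.SR.E6_mg_m3
import Mathlib
import Cfsg.Agent.S0848
import Cfsg.Agent.H699.FR.Sem_mg_m3
import Cfsg.Prelude.Def_Classical
import Cfsg.Agent.H955.FSAll
import Cfsg.Agent.S0244
import Cfsg.Agent.S4973
import Cfsg.Agent.FastGrp
import Cfsg.Agent.Prune
set_option linter.all false

section
prune_inst 0x7fb1ecf999a86ddfdfff7e3ff6d9cff9f3acafffe6dff9cbbfe021afaf9f230289c52b8d89e012fe0ee3621410b87843fdfffeffe06bdc7ffffd5ff41ffbee0fe5f73508519588340f3c0fff03f07f8a6f3fffffffffffffffffffffffffffbeffbffbfeffff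

-- part: H778/FR/Univ_mg
section
prune_inst 0x4012020040800000000000090210000000400000200000000088000000480000000000040040010100002080000000000001000000000000000000000000000000000000400400000000000000004000000000000000000000000000000000000000000000
set_option linter.all false
open scoped Cfsg.Agent.FastGrp

-- part: H778/FR/Univ
section
/-!
# S4970 (FR-FIN, helper778): `FR` does not depend on the universe
-/

set_option autoImplicit false

namespace Cfsg.Agent.H778.FRF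

open Cfsg Cfsg.Agent.H955.FS Cfsg.Agent.H721.FR Cfsg.Agent.H721.SR

universe u v

theorem fsi_congr {G : Type u} {H : Type v} [Group G] [Group H] (e : G ≃* H) (χ : H → ℂ) :
    fsi (χ ∘ e) = fsi χ := by
  unfold fsi
  rw [Nat.card_congr e.toEquiv]
  congr 1
  rw [← finsum_comp_equiv e.toEquiv]
  refine finsum_congr fun s => ?_
  show χ (e (s * s)) = χ (e s * e s)
  rw [map_mul]

theorem good_congr {G : Type u} {H : Type v} [Group G] [Group H] (e : G ≃* H) {w : Prop}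
    (h : FSGood w G) : FSGood w H := by
  intro χ hχ
  have h1 := h (χ ∘ e) (Characters.Core.isIrr_comp e.toMonoidHom e.surjective hχ)
  rwa [fsi_congr] at h1

/-- `FR` is invariant under isomorphisms, any universes -/
theorem fr_congr {G : Type u} {H : Type v} [Group G] [Group H] (e : G ≃* H) (h : FR G) : FR H := by
  intro hr
  refine good_congr e (h fun g => ?_)
  obtain ⟨x, hx⟩ := isConj_iff.1 (hr (e g))
  refine isConj_iff.2 ⟨e.symm x, e.injective ?_⟩
  simpa only [_root_.map_mul, _root_.MulEquiv.apply_symm_apply, _root_.map_inv] using hx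

end Cfsg.Agent.H778.FRF
end

-- part: H659/FRAsm
section
/-!
# TEAM SR part 2 (S4970), task FR-ASM: the strong induction

`Inputs` collects the statements of the pieces FR-CVR, FR-RED, FR-SMALL, FR-ONE, FR-UNI, FR-SEM, FR-SEM2, FR-N4;
`hyp_all : Inputs → ∀ n, Hyp n`, and its consequences for `O Q` and the symplectic groups.
-/

set_option autoImplicit false

universe u

namespace Cfsg.Agent.H659.FRAsm

open Cfsg Cfsg.Agent.H955.FS Cfsg.Agent.H721.SR Cfsg.Agent.H721.FR Module QuadraticMap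
open Cfsg.Agent.LieClassical.OrthCore

/-- `X² - τ X + 1` has a root in `F` -/
def Split {F : Type u} [Field F] (τ : F) : Prop := ∃ a : F, a * a + 1 = τ * a

/-- the statements of the pieces -/
structure Inputs : Prop where
  /-- FR-CVR -/
  cvr : ∀ {F V : Type u} [Field F] [Finite F] [AddCommGroup V] [Module F V] [FiniteDimensional F V]
    {B : V →ₗ[F] V →ₗ[F] F} {ε : F}, Fm B ε →
    (∀ (c : V ≃ₗ[F] V) (P : Subgroup (V ≃ₗ[F] V)), c ∈ Isom B → (c = 1 ∨ ((orderOf c).Prime ∧ orderOf c ≠ 2)) →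
      Mx B c P → Cov B ε c P) → FSZs (Isom B) (zel V ε)
  /-- FR-RED -/
  red : ∀ {F V : Type u} [Field F] [Finite F] [AddCommGroup V] [Module F V] [FiniteDimensional F V]
    {B : V →ₗ[F] V →ₗ[F] F} {ε : F}, Fm B ε → (∀ m < finrank F V, Hyp.{u} m) →
    ∀ {c : V ≃ₗ[F] V} {P : Subgroup (V ≃ₗ[F] V)}, c ∈ Isom B → P ≤ Isom B →
      Red B (Subgroup.closure {c} ⊔ P) → Cov B ε c P
  /-- FR-SMALL -/
  small : ∀ n ≤ 2, Hyp.{u} n
  /-- FR-ONE -/
  one : ∀ {F V : Type u} [Field F] [Finite F] [AddCommGroup V] [Module F V] [FiniteDimensional F V]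
    {B : V →ₗ[F] V →ₗ[F] F} {ε : F}, Fm B ε → 3 ≤ finrank F V → ∀ {P : Subgroup (V ≃ₗ[F] V)}, Mx B 1 P → Red B P
  /-- FR-UNI -/
  uni : ∀ {F V : Type u} [Field F] [Finite F] [AddCommGroup V] [Module F V] [FiniteDimensional F V]
    {B : V →ₗ[F] V →ₗ[F] F} {ε : F}, Fm B ε → (∀ m < finrank F V, Hyp.{u} m) →
    ∀ {c : V ≃ₗ[F] V} {P : Subgroup (V ≃ₗ[F] V)}, c ∈ Isom B → c ≠ 1 → (∃ a : ℕ, c ^ (ringChar F) ^ a = 1) →
      Mx B c P → Cov B ε c P
  /-- FR-SEM -/
  sem : ∀ {F V : Type u} [Field F] [Finite F] [AddCommGroup V] [Module F V] [FiniteDimensional F V]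
    {B : V →ₗ[F] V →ₗ[F] F} {ε : F}, Fm B ε → (∀ m < finrank F V, Hyp.{u} m) →
    ∀ {c : V ≃ₗ[F] V} {P : Subgroup (V ≃ₗ[F] V)}, c ∈ Isom B → c ≠ 1 → (orderOf c).Prime → orderOf c ≠ 2 →
      orderOf c ≠ ringChar F → Mx B c P →
      Cov B ε c P ∨ ∃ τ : F, τ ≠ 2 ∧ τ ≠ -2 ∧ ∀ v, c v + c⁻¹ v = τ • v
  /-- FR-SEM2 -/
  sem2 : ∀ {F V : Type u} [Field F] [Finite F] [AddCommGroup V] [Module F V] [FiniteDimensional F V]
    {B : V →ₗ[F] V →ₗ[F] F} {ε : F}, Fm B ε →
    ∀ {c : V ≃ₗ[F] V} {P : Subgroup (V ≃ₗ[F] V)} {τ : F}, c ∈ Isom B → c ≠ 1 → (orderOf c).Prime → orderOf c ≠ 2 →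
      orderOf c ≠ ringChar F → Mx B c P → τ ≠ 2 → τ ≠ -2 → (∀ v, c v + c⁻¹ v = τ • v) → 3 ≤ finrank F V →
      Red B (Subgroup.closure {c} ⊔ P) ∨
        (finrank F V = 4 ∧ ((Split τ ∧ Nat.card F % 4 = 3) ∨ (¬ Split τ ∧ Nat.card F % 4 = 1)))
  /-- FR-N4 -/
  n4 : ∀ {F V : Type u} [Field F] [Finite F] [AddCommGroup V] [Module F V] [FiniteDimensional F V]
    {B : V →ₗ[F] V →ₗ[F] F} {ε : F}, Fm B ε →
    ∀ {c : V ≃ₗ[F] V} {P : Subgroup (V ≃ₗ[F] V)} {τ : F}, c ∈ Isom B → c ≠ 1 → (orderOf c).Prime → orderOf c ≠ 2 →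
      orderOf c ≠ ringChar F → Mx B c P → τ ≠ 2 → τ ≠ -2 → (∀ v, c v + c⁻¹ v = τ • v) → finrank F V = 4 →
      ((Split τ ∧ Nat.card F % 4 = 3) ∨ (¬ Split τ ∧ Nat.card F % 4 = 1)) → Cov B ε c P

/-! ### consequences -/

section Consequences

variable {F V : Type u} [Field F] [Finite F] [AddCommGroup V] [Module F V] [FiniteDimensional F V]

theorem finite_gl : Finite (V ≃ₗ[F] V) := by
  haveI : Finite V := Module.finite_of_finite F
  exact Finite.of_injective (fun g : V ≃ₗ[F] V => (g : V → V)) DFunLike.coe_injective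

theorem fsGood_true_isom (h : ∀ n : ℕ, Hyp.{u} n) {B : V →ₗ[F] V →ₗ[F] F} (hF : Fm B 1) :
    FSGood True (Isom B) := by
  haveI := finite_gl (F := F) (V := V)
  obtain ⟨hz, h1⟩ := h _ F V B 1 hF rfl
  have h2 : (⟨zel V (1 : F), hz⟩ : Isom B) = 1 := by
    apply Subtype.ext
    change zel V (1 : F) = 1
    unfold zel
    rw [if_pos rfl]
  rw [h2] at h1
  exact fsz_one_iff.1 h1

omit [Finite F] [FiniteDimensional F V] in
theorem fm_polar {Q : QuadraticForm F V} (h2 : (2 : F) ≠ 0) (hQ : Nondeg Q) : Fm (polarBilin Q) 1 :=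
  ⟨h2, Or.inl rfl, fun x y => by
    rw [one_mul, polarBilin_apply_apply, polarBilin_apply_apply, QuadraticMap.polar_comm], hQ⟩

omit [Finite F] [FiniteDimensional F V] in
theorem o_eq_isom {Q : QuadraticForm F V} (h2 : (2 : F) ≠ 0) : O Q = Isom (polarBilin Q) := by
  ext g
  constructor
  · intro hg x y
    rw [polarBilin_apply_apply, polarBilin_apply_apply, polar_map hg]
  · intro hg v
    have h1 := mem_isom.1 hg v v
    rw [polarBilin_apply_apply, polarBilin_apply_apply, polar_self', polar_self'] at h1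
    exact mul_left_cancel₀ h2 h1

/-- no indicator of `O Q` is `-1` -/
theorem fsGood_true_O (h : ∀ n : ℕ, Hyp.{u} n) {Q : QuadraticForm F V} (h2 : (2 : F) ≠ 0) (hQ : Nondeg Q) :
    FSGood True (O Q) := by
  rw [o_eq_isom h2]
  exact fsGood_true_isom h (fm_polar h2 hQ)

omit [Finite F] in
/-- all elements of `O Q` are real -/
theorem isConj_inv_O {Q : QuadraticForm F V} (h2 : (2 : F) ≠ 0) (hQ : Nondeg Q) (g : O Q) : IsConj g g⁻¹ := by
  have hS : St (polarBilin Q) 1 (g : V ≃ₗ[F] V) :=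
    ⟨Or.inl rfl, (fm_polar h2 hQ).symm, hQ, mem_isom.1 (by rw [← o_eq_isom h2]; exact g.2)⟩
  obtain ⟨x, -, hx, hB⟩ := Cfsg.Agent.H575.SR.isVert_all hS (Or.inl h2)
  have hxO : x ∈ O Q := by
    rw [o_eq_isom h2]
    intro a b
    rw [hB, one_mul]
  exact isConj_iff.2 ⟨⟨x, hxO⟩, Subtype.ext hx⟩

/-- **all indicators of `O Q` are one** (`q` odd) -/
theorem fsGood_false_O (h : ∀ n : ℕ, Hyp.{u} n) {Q : QuadraticForm F V} (h2 : (2 : F) ≠ 0) (hQ : Nondeg Q) :
    FSGood False (O Q) := by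
  haveI := finite_gl (F := F) (V := V)
  exact (fsGood_true_O h h2 hQ).of_isConj_inv fun g => isConj_inv_O h2 hQ g

end Consequences

end Cfsg.Agent.H659.FRAsm
end

-- part: H168/FRHex/LongOne
section
/-!
# The centraliser of a long root involution, characters trivial on `X₄` (team SR, S4970; helper168)
-/

set_option autoImplicit false
set_option linter.unusedVariables false

namespace Cfsg.Agent.H168.FRHex.Long

open Cfsg Cfsg.Agent.H955.FS Cfsg.Agent.StdRank2.Hex Cfsg.Agent.StdRank2.Hex.HexTwo Cfsg.Agent.SplitTwo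
open Cfsg.Agent.H168.SRHex

universe u v

/-- **Characters of `X = A L` (`A` normal, `L` a complement with property `CI`) trivial on the squares of `A`.** -/
theorem good_triv {Γ : Type u} [Group Γ] (X A L Z : Subgroup Γ) [Finite X] (hAX : A ≤ X) (hLX : L ≤ X)
    (hAn : ∀ g ∈ X, ∀ a ∈ A, g * a * g⁻¹ ∈ A) (hdec : ∀ g ∈ X, ∃ a ∈ A, ∃ l ∈ L, g = a * l)
    (hAL : ∀ g ∈ L, g ∈ A → g = 1) (hL : CI L) (hZA : Z ≤ A) (hsq : ∀ a ∈ A, a * a ∈ Z) {χ : X → ℂ}
    (hχ : IsIrrCharacter X χ) (hker : ∀ z (hz : z ∈ Z), χ ⟨z, hAX (hZA hz)⟩ = χ 1) :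
    fsi χ = 1 ∨ (True ∧ fsi χ = 0) := by
  classical
  have fL : Finite L := Finite.of_injective (Subgroup.inclusion hLX) (Subgroup.inclusion_injective hLX)
  obtain ⟨lam, k1, k2, -, k4⟩ := exists_linear (A.subgroupOf X) (Z.subgroupOf X)
    (fun g hg => Subgroup.mem_subgroupOf.2 (hZA (Subgroup.mem_subgroupOf.1 hg)))
    (fun g hg => Subgroup.mem_subgroupOf.2 (hsq _ (Subgroup.mem_subgroupOf.1 hg))) hχ
    (fun g hg => hker g (Subgroup.mem_subgroupOf.1 hg))
  let lam' : Γ → ℂ := fun g => if hg : g ∈ A then lam ⟨⟨g, hAX hg⟩, Subgroup.mem_subgroupOf.2 hg⟩ else 0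
  have hl : ∀ (g : Γ) (hg : g ∈ A), lam' g = lam ⟨⟨g, hAX hg⟩, Subgroup.mem_subgroupOf.2 hg⟩ := fun g hg => dif_pos hg
  let S : Subgroup L :=
    { carrier := {y | ∀ a ∈ A, lam' (L.subtype y * a * (L.subtype y)⁻¹) = lam' a}
      mul_mem' := by
        intro y y' hy hy' a ha
        rw [← hy' a ha, ← hy _ (hAn (L.subtype y') (hLX y'.2) a ha), map_mul]
        congr 1
        group
      one_mem' := by
        intro a ha
        rw [map_one, one_mul, inv_one, mul_one]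
      inv_mem' := by
        intro y hy a ha
        have hm := hAn (L.subtype y⁻¹) (hLX (y⁻¹ : L).2) a ha
        rw [← hy _ hm, map_inv]
        congr 1
        group }
  exact clifford_amb X A hAX hAn L.subtype (fun y => hLX y.2) (fun y hy => Subtype.ext (hAL _ y.2 hy))
    (fun g hg => by
      obtain ⟨a, ha, l, hl', e⟩ := hdec g hg
      exact ⟨a, ha, ⟨l, hl'⟩, e⟩) lam'
    (fun a ha b hb => by rw [hl a ha, hl b hb, hl _ (mul_mem ha hb), ← k1]; rfl)
    (fun a ha => by rw [hl a ha]; exact k2 _) (w := True) S (fun y => Iff.rfl)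
    (ci_good (CI.of_injective S.subtype Subtype.val_injective hL)) hχ (by
      intro h0
      apply k4
      rw [← h0]
      let e : A.subgroupOf X ≃ A := (Subgroup.subgroupOfEquivOfLe hAX).toEquiv
      refine finsum_eq_of_bijective e e.bijective (fun a => ?_)
      show χ a * lam a = χ _ * lam' ((a : X) : Γ)
      rw [hl _ (Subgroup.mem_subgroupOf.1 a.2)]
      rfl)

variable {E : Type u} [Field E] {σ : E ≃+* E} {G : Type v} [Group G] {x : ZMod 12 → E → G}
variable (h : HexTwo σ x)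
include h

/-- **Characters of `C(x 4 1) = ⟨X₁, …, X₇⟩` trivial on `X₄`.** -/
theorem long_one [Finite E] [Finite G] {χ : gen σ x (arc 1 7) → ℂ} (hχ : IsIrrCharacter (gen σ x (arc 1 7)) χ)
    (hker : ∀ z (hz : z ∈ gen σ x {4}) (hz' : z ∈ gen σ x (arc 1 7)), χ ⟨z, hz'⟩ = χ 1) :
    fsi χ = 1 ∨ (True ∧ fsi χ = 0) := by
  have e12 : (1 : ZMod 12) + 1 = 2 := by decide
  have hAX : gen σ x (arc 2 5) ≤ gen σ x (arc 1 7) := by
    have := Levi.Q_le (σ := σ) (x := x) 1
    rwa [e12] at this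
  have h4 : gen σ x {4} ≤ gen σ x (arc 2 5) := gen_mono (by
    intro l hl
    rw [Set.mem_singleton_iff] at hl
    subst hl
    rw [mem_arc]; decide)
  refine good_triv (gen σ x (arc 1 7)) (gen σ x (arc 2 5)) (gen σ x {(1 : ZMod 12), 1 + 6}) (gen σ x {4}) hAX
    (Levi.L_le 1) ?_ ?_ ?_ (Short.ci_L h 1) h4 ?_ hχ (fun z hz => hker z hz _)
  · intro g hg a ha
    have := Levi.Q_conj h (k := 1) hg (y := a) (by rw [e12]; exact ha)
    rwa [e12] at this
  · intro g hg
    obtain ⟨a, ha, l, hl, e⟩ := (h.mem_P 1).1 hg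
    rw [e12] at ha
    exact ⟨a, ha, l, hl, e⟩
  · intro g hg hg'
    exact Levi.eq_one_of_LQ h hg (by rw [e12]; exact hg')
  · intro a ha
    obtain ⟨b, c, d, e, f, hb, hd, hf, rfl⟩ := h.mem_Q1.1 ha
    rw [Short.sq_A2 h hb hd hf]
    exact x_mem_gen (Set.mem_singleton 4) (ok_of_fix 4 (by rw [map_add, map_mul, hb, hf, h.fix_trc]))

end Cfsg.Agent.H168.FRHex.Long
end

-- part: H168/FRHex/Final
section
/-!
# Indicators of `³D₄(q)`, `q` even: reduction to the long root involution (team SR, S4970; helper168)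
-/

set_option autoImplicit false
set_option linter.unusedVariables false

namespace Cfsg.Agent.H168.FRHex

open Cfsg Cfsg.Agent.H955.FS Cfsg.Agent.StdRank2.Hex Cfsg.Agent.StdRank2.Hex.HexTwo Cfsg.Agent.SplitTwo
open Cfsg.Agent.H168.SRHex

universe u v

/-- centralisers of conjugate elements -/
theorem good_centralizer_conj {G : Type u} [Group G] [Finite G] {y z b : G} (e : b * z * b⁻¹ = y)
    (h : FSGood True (Subgroup.centralizer ({y} : Set G))) : FSGood True (Subgroup.centralizer ({z} : Set G)) := by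
  have e1 : (Subgroup.centralizer ({y} : Set G)).map (MulAut.conj b⁻¹).toMonoidHom =
      Subgroup.centralizer ({z} : Set G) := by
    ext g
    constructor
    · rintro ⟨c, hc, rfl⟩
      rw [SetLike.mem_coe, Subgroup.mem_centralizer_singleton_iff] at hc
      rw [Subgroup.mem_centralizer_singleton_iff]
      show b⁻¹ * c * b⁻¹⁻¹ * z = z * (b⁻¹ * c * b⁻¹⁻¹)
      rw [← e] at hc
      calc b⁻¹ * c * b⁻¹⁻¹ * z = b⁻¹ * (c * (b * z * b⁻¹)) * b := by group
        _ = b⁻¹ * ((b * z * b⁻¹) * c) * b := by rw [hc]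
        _ = _ := by group
    · intro hg
      rw [Subgroup.mem_centralizer_singleton_iff] at hg
      refine ⟨b * g * b⁻¹, ?_, ?_⟩
      · rw [SetLike.mem_coe, Subgroup.mem_centralizer_singleton_iff, ← e]
        calc b * g * b⁻¹ * (b * z * b⁻¹) = b * (g * z) * b⁻¹ := by group
          _ = b * (z * g) * b⁻¹ := by rw [hg]
          _ = _ := by group
      · show b⁻¹ * (b * g * b⁻¹) * b⁻¹⁻¹ = g
        group
  rw [← e1]
  exact h.of_equiv ((Subgroup.centralizer ({y} : Set G)).equivMapOfInjective _ (MulAut.conj b⁻¹).injective)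

variable {E : Type u} [Field E] {σ : E ≃+* E} {G : Type v} [Group G] {x : ZMod 12 → E → G}

/-- **Reduction to the long root involution.** -/
theorem good_of_long (h : HexTwo σ x) [Finite E] [Finite G] (hA : AA σ x = ⊤)
    (hlong : FSGood True (Subgroup.centralizer ({x 4 1} : Set G))) : FSGood True G := by
  refine inv_cover fun z hz hz1 => ?_
  have h2 : IsPGroup 2 (Subgroup.zpowers z) := by
    refine IsPGroup.of_card (n := 1) ?_
    rw [Nat.card_zpowers, pow_one]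
    exact orderOf_eq_prime (by rw [pow_two, hz]) hz1
  obtain ⟨p, -, hp⟩ := h.sylow_conj (S := ⊤) (Q := Subgroup.zpowers z) le_top (by rw [hA]) h2 le_top
  have hc := h.cls_U (hp z (Subgroup.mem_zpowers z)) (by
    calc p * z * p⁻¹ * (p * z * p⁻¹) = p * (z * z) * p⁻¹ := by group
      _ = 1 := by rw [hz]; group) (fun e => hz1 (by
    have : z = p⁻¹ * (p * z * p⁻¹) * p := by group
    rw [this, e]; group))
  have key : ∀ {b y : G}, b * (p * z * p⁻¹) * b⁻¹ = y → (b * p) * z * (b * p)⁻¹ = y := fun e => by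
    rw [← e]; group
  rcases hc with ⟨b, hb, hc⟩ | ⟨b, hb, hc⟩
  · exact good_centralizer_conj (key hc) hlong
  · exact good_centralizer_conj (key hc) (Short.short_good h hA)

/-- `gen (arc 1 7)` is the centraliser of the long root involution -/
theorem centralizer_long (h : HexTwo σ x) [Finite E] (hA : AA σ x = ⊤) :
    Subgroup.centralizer ({x 4 1} : Set G) = gen σ x (arc 1 7) := by
  ext g
  rw [Subgroup.mem_centralizer_singleton_iff, ← h.mem_centralizer_x4 (g := g) (by rw [hA]; exact Subgroup.mem_top g)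
    (map_one σ) one_ne_zero, mul_inv_eq_iff_eq_mul]

/-- **Assembly**: `hlong2` are the characters of `⟨X₁, …, X₇⟩` which are not trivial on `X₄`. -/
theorem good_of_long_two (h : HexTwo σ x) [Finite E] [Finite G] (hA : AA σ x = ⊤)
    (hlong2 : ∀ χ : gen σ x (arc 1 7) → ℂ, IsIrrCharacter (gen σ x (arc 1 7)) χ →
      (∃ z, ∃ (hz : z ∈ gen σ x {4}) (hz' : z ∈ gen σ x (arc 1 7)), χ ⟨z, hz'⟩ ≠ χ 1) →
      fsi χ = 1 ∨ (True ∧ fsi χ = 0)) : FSGood True G := by
  refine good_of_long h hA ?_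
  rw [centralizer_long h hA]
  intro χ hχ
  by_cases hk : ∃ z, ∃ (hz : z ∈ gen σ x {4}) (hz' : z ∈ gen σ x (arc 1 7)), χ ⟨z, hz'⟩ ≠ χ 1
  · exact hlong2 χ hχ hk
  · push Not at hk
    exact Long.long_one h hχ hk

end Cfsg.Agent.H168.FRHex
end

-- part: H969/FR/Gelf
section
/-!
# Indicators by a Gelfand-Graev counting argument

`f : D →* G`, `ψ` a linear character of `D`, `h ∈ G` with `h²` central of square one, `h⁻¹ f(D) h ≤ f(D)` and
`ψ^h = ψ⁻¹`. If for all `y ∈ G` either `h y⁻¹ h⁻¹ = f(a) y f(b)` with `ψ(a) ψ(b) = 1`, or `y f(a) = f(b) y` with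
`ψ(a) ≠ ψ(b)`, then every irreducible character `χ` of `G` over `ψ` has `⟨χ ∘ f, ψ⟩ = 1` and `ν(χ) = χ(h²)/χ(1)`.
(Both `∑ ⟨χ∘f, ψ⟩²` and `∑ ν(χ) ω_χ(h²) ⟨χ∘f, ψ⟩` are computed by counting; the summands agree for each `y`.)
-/

set_option autoImplicit false

universe u v

namespace Cfsg.Agent.H969.FR

open Cfsg Cfsg.Agent.H955.FS Cfsg.Agent.Characters.Core
open scoped ComplexConjugate

section gelf

variable {G : Type u} [Group G] {D : Type v} [Group D]

/-- the hypothesis on one element -/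
def Ok (f : D →* G) (ψ : D →* ℂˣ) (h y : G) : Prop :=
  (∃ a b : D, h * y⁻¹ * h⁻¹ = f a * y * f b ∧ ψ a * ψ b = 1) ∨
  (∃ a b : D, y * f a = f b * y ∧ ψ a ≠ ψ b)

theorem conj_hom [Finite D] (ψ : D →* ℂˣ) (d : D) : conj (ψ d : ℂ) = ((ψ d⁻¹ : ℂˣ) : ℂ) :=
  (isCharacter_apply_inv (CharDeep.LinearChar.isCharacter_of_hom ψ) d).symm

theorem inner_sum [Finite G] [Fintype D] (f : D →* G) (ψ : D →* ℂˣ) (h : G)
    (hok : ∀ y, Ok f ψ h y) (y : G) [DecidableEq G] :
    (∑ v : D, ∑ w : D, if y * f w = f v * y then ((ψ v : ℂˣ) : ℂ) * ((ψ w⁻¹ : ℂˣ) : ℂ) else 0) =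
    ∑ v : D, ∑ w : D, if h * y⁻¹ * h⁻¹ * f w = f v * y then ((ψ v : ℂˣ) : ℂ) * ((ψ w⁻¹ : ℂˣ) : ℂ) else 0 := by
  rcases hok y with ⟨a, b, h1, h2⟩ | ⟨a, b, h1, h2⟩
  · rw [h1]
    rw [← Equiv.sum_comp (Equiv.mulLeft a⁻¹)]
    refine Finset.sum_congr rfl fun v _ => ?_
    rw [← Equiv.sum_comp (Equiv.mulLeft b)]
    refine Finset.sum_congr rfl fun w _ => ?_
    rw [Equiv.coe_mulLeft, Equiv.coe_mulLeft]
    have e1 : (y * f (b * w) = f (a⁻¹ * v) * y) ↔ (f a * y * f b * f w = f v * y) := by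
      rw [map_mul, map_mul, map_inv]
      constructor
      · intro h3
        calc f a * y * f b * f w = f a * (y * (f b * f w)) := by group
          _ = f v * y := by rw [h3]; group
      · intro h3
        calc y * (f b * f w) = (f a)⁻¹ * (f a * y * f b * f w) := by group
          _ = (f a)⁻¹ * f v * y := by rw [h3]; group
    have e2 : ψ (a⁻¹ * v) * ψ (b * w)⁻¹ = ψ v * ψ w⁻¹ := by
      rw [← map_mul, mul_inv_rev, map_mul, map_mul, map_mul, map_inv, map_inv ψ b]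
      have : ψ a = (ψ b)⁻¹ := eq_inv_of_mul_eq_one_left h2
      rw [this, inv_inv]
      rw [mul_comm (ψ w⁻¹) (ψ b)⁻¹]
      rw [mul_mul_mul_comm, mul_inv_cancel, one_mul]
    have e3 : ((ψ (a⁻¹ * v) : ℂˣ) : ℂ) * ((ψ (b * w)⁻¹ : ℂˣ) : ℂ) = ((ψ v : ℂˣ) : ℂ) * ((ψ w⁻¹ : ℂˣ) : ℂ) := by
      rw [← Units.val_mul, e2, Units.val_mul]
    rw [if_congr e1 e3 rfl]
  · -- both sums vanish
    have key : ∀ t : G, (∑ v : D, ∑ w : D, if t * f w = f v * y then ((ψ v : ℂˣ) : ℂ) * ((ψ w⁻¹ : ℂˣ) : ℂ) else 0) = 0 := by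
      intro t
      have h3 : (∑ v : D, ∑ w : D, if t * f w = f v * y then ((ψ v : ℂˣ) : ℂ) * ((ψ w⁻¹ : ℂˣ) : ℂ) else 0) =
          ((ψ b : ℂˣ) : ℂ) * ((ψ a⁻¹ : ℂˣ) : ℂ) *
          (∑ v : D, ∑ w : D, if t * f w = f v * y then ((ψ v : ℂˣ) : ℂ) * ((ψ w⁻¹ : ℂˣ) : ℂ) else 0) := by
        conv_lhs => rw [← Equiv.sum_comp (Equiv.mulRight b)]
        rw [Finset.mul_sum]
        refine Finset.sum_congr rfl fun v _ => ?_
        conv_lhs => rw [← Equiv.sum_comp (Equiv.mulRight a)]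
        rw [Finset.mul_sum]
        refine Finset.sum_congr rfl fun w _ => ?_
        rw [Equiv.coe_mulRight, Equiv.coe_mulRight]
        have e1 : (t * f (w * a) = f (v * b) * y) ↔ (t * f w = f v * y) := by
          rw [map_mul, map_mul, mul_assoc (f v), ← h1, ← mul_assoc, ← mul_assoc, mul_left_inj]
        have e3 : ((ψ (v * b) : ℂˣ) : ℂ) * ((ψ (w * a)⁻¹ : ℂˣ) : ℂ) =
            ((ψ b : ℂˣ) : ℂ) * ((ψ a⁻¹ : ℂˣ) : ℂ) * (((ψ v : ℂˣ) : ℂ) * ((ψ w⁻¹ : ℂˣ) : ℂ)) := by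
          rw [mul_inv_rev, map_mul, map_mul, Units.val_mul, Units.val_mul]
          ring
        rw [if_congr e1 e3 rfl, mul_ite, mul_zero]
      have h4 : ((ψ b : ℂˣ) : ℂ) * ((ψ a⁻¹ : ℂˣ) : ℂ) ≠ 1 := by
        intro h5
        apply h2
        rw [← Units.val_mul, map_inv] at h5
        have h6 : ψ b * (ψ a)⁻¹ = 1 := Units.ext h5
        exact (mul_inv_eq_one.1 h6).symm
      have h5 : (1 - ((ψ b : ℂˣ) : ℂ) * ((ψ a⁻¹ : ℂˣ) : ℂ)) *
          (∑ v : D, ∑ w : D, if t * f w = f v * y then ((ψ v : ℂˣ) : ℂ) * ((ψ w⁻¹ : ℂˣ) : ℂ) else 0) = 0 := by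
        rw [sub_mul, one_mul, ← h3, sub_self]
      exact (mul_eq_zero.1 h5).resolve_left (sub_ne_zero.2 h4.symm)
    rw [key, key]

theorem exists_mult [Finite G] [Fintype D] (f : D →* G) (ψ : D →* ℂˣ) {χ : G → ℂ} (hχ : IsIrrCharacter G χ) :
    ∃ n : ℕ, ∑ d : D, χ (f d) * ((ψ d⁻¹ : ℂˣ) : ℂ) = (Nat.card D : ℂ) * n := by
  obtain ⟨n, hn⟩ := classInner_isNat (isCharacter_comp f (isIrr_isCharacter hχ))
    (CharDeep.LinearChar.isCharacter_of_hom ψ)
  refine ⟨n, ?_⟩
  rw [classInner_def, inv_mul_eq_iff_eq_mul₀ (by exact_mod_cast Nat.card_pos.ne')] at hn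
  rw [← hn]
  refine Finset.sum_congr rfl fun d _ => ?_
  rw [conj_hom]
  rfl

theorem sum_one [Finite G] [Fintype G] [Fintype D] [DecidableEq G] [Fintype (IrrCharacter G)] (f : D →* G)
    (ψ : D →* ℂˣ) (n : IrrCharacter G → ℕ)
    (hn : ∀ χ : IrrCharacter G, ∑ d : D, (χ : G → ℂ) (f d) * ((ψ d⁻¹ : ℂˣ) : ℂ) = (Nat.card D : ℂ) * n χ) :
    (∑ y : G, ∑ v : D, ∑ w : D, if y * f w = f v * y then ((ψ v : ℂˣ) : ℂ) * ((ψ w⁻¹ : ℂˣ) : ℂ) else 0) =
      (Nat.card D : ℂ) ^ 2 * ∑ χ : IrrCharacter G, (n χ : ℂ) ^ 2 := by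
  have h1 : ∀ v w : D, (∑ y : G, if y * f w = f v * y then ((ψ v : ℂˣ) : ℂ) * ((ψ w⁻¹ : ℂˣ) : ℂ) else 0) =
      ∑ χ : IrrCharacter G, ((χ : G → ℂ) (f w) * ((ψ w⁻¹ : ℂˣ) : ℂ)) *
        conj ((χ : G → ℂ) (f v) * ((ψ v⁻¹ : ℂˣ) : ℂ)) := by
    intro v w
    have e1 : (∑ y : G, if y * f w = f v * y then ((ψ v : ℂˣ) : ℂ) * ((ψ w⁻¹ : ℂˣ) : ℂ) else 0) =
        ((ψ v : ℂˣ) : ℂ) * ((ψ w⁻¹ : ℂˣ) : ℂ) * (Nat.card {x : G // x * f w * x⁻¹ = f v} : ℂ) := by
      rw [Nat.card_eq_fintype_card, Fintype.card_subtype, ← Finset.sum_boole, Finset.mul_sum]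
      refine Finset.sum_congr rfl fun y _ => ?_
      rw [mul_ite, mul_one, mul_zero]
      exact if_congr mul_inv_eq_iff_eq_mul.symm rfl rfl
    rw [e1, ← S0876.sum_irr_mul_conj, Finset.mul_sum]
    refine Finset.sum_congr rfl fun χ _ => ?_
    rw [map_mul, conj_hom, inv_inv]
    ring
  rw [Finset.sum_comm]
  have h2 : ∀ v : D, (∑ y : G, ∑ w : D, if y * f w = f v * y then ((ψ v : ℂˣ) : ℂ) * ((ψ w⁻¹ : ℂˣ) : ℂ) else 0) =
      ∑ χ : IrrCharacter G, ((Nat.card D : ℂ) * n χ) * conj ((χ : G → ℂ) (f v) * ((ψ v⁻¹ : ℂˣ) : ℂ)) := by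
    intro v
    rw [Finset.sum_comm, Finset.sum_congr rfl fun w _ => h1 v w, Finset.sum_comm]
    refine Finset.sum_congr rfl fun χ _ => ?_
    rw [← Finset.sum_mul, hn]
  rw [Finset.sum_congr rfl fun v _ => h2 v, Finset.sum_comm, Finset.mul_sum]
  refine Finset.sum_congr rfl fun χ _ => ?_
  rw [← Finset.mul_sum, ← map_sum, hn, map_mul, Complex.conj_natCast, Complex.conj_natCast]
  ring

theorem sum_two [Finite G] [Fintype G] [Fintype D] [DecidableEq G] [Fintype (IrrCharacter G)] (f : D →* G)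
    (ψ : D →* ℂˣ) (n : IrrCharacter G → ℕ)
    (hn : ∀ χ : IrrCharacter G, ∑ d : D, (χ : G → ℂ) (f d) * ((ψ d⁻¹ : ℂˣ) : ℂ) = (Nat.card D : ℂ) * n χ)
    {h : G} (hz : ∀ g, g * (h * h) = h * h * g) (hz2 : h * h * (h * h) = 1)
    (hσ : ∀ d, ∃ d', h⁻¹ * f d * h = f d' ∧ ψ d' = (ψ d)⁻¹) (w : IrrCharacter G → ℂ)
    (hw : ∀ (χ : IrrCharacter G) (g : G), (χ : G → ℂ) (g * (h * h)) = w χ * (χ : G → ℂ) g) :
    (∑ y : G, ∑ v : D, ∑ w : D, if h * y⁻¹ * h⁻¹ * f w = f v * y then ((ψ v : ℂˣ) : ℂ) * ((ψ w⁻¹ : ℂˣ) : ℂ) else 0) =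
      (Nat.card D : ℂ) ^ 2 * ∑ χ : IrrCharacter G, fsi (χ : G → ℂ) * w χ * (n χ : ℂ) := by
  have h1 : ∀ v w : D, (∑ y : G, if h * y⁻¹ * h⁻¹ * f w = f v * y then ((ψ v : ℂˣ) : ℂ) * ((ψ w⁻¹ : ℂˣ) : ℂ) else 0) =
      ((ψ v : ℂˣ) : ℂ) * ((ψ w⁻¹ : ℂˣ) : ℂ) * H692.SqRoot.sqrtCount G ((h⁻¹ * f v * h) * f w * (h * h)) := by
    intro v w
    rw [H692.SqRoot.sqrtCount, Nat.card_eq_fintype_card, Fintype.card_subtype, ← Finset.sum_boole, Finset.mul_sum]
    rw [← Equiv.sum_comp (Equiv.mulLeft (h⁻¹ * f v)⁻¹)]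
    refine Finset.sum_congr rfl fun y _ => ?_
    rw [mul_ite, mul_one, mul_zero]
    refine if_congr ?_ rfl rfl
    rw [Equiv.coe_mulLeft]
    have hh : h * h = h⁻¹ * h⁻¹ := by
      rw [← mul_inv_rev]
      exact eq_inv_of_mul_eq_one_left hz2
    have e1 : h⁻¹ * f v * h * f w * (h * h) = h⁻¹ * f v * h⁻¹ * f w := by
      calc h⁻¹ * f v * h * f w * (h * h) = h⁻¹ * f v * h * (f w * (h * h)) := by group
        _ = h⁻¹ * f v * h * (h⁻¹ * h⁻¹ * f w) := by rw [hz, hh]
        _ = _ := by group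
    rw [e1]
    constructor
    · intro h2
      have h3 : y⁻¹ * (h⁻¹ * f v * h⁻¹ * f w) = y := by
        calc y⁻¹ * (h⁻¹ * f v * h⁻¹ * f w) =
            h⁻¹ * (h * ((h⁻¹ * f v)⁻¹ * y)⁻¹ * h⁻¹ * f w) := by group
          _ = h⁻¹ * (f v * ((h⁻¹ * f v)⁻¹ * y)) := by rw [h2]
          _ = y := by group
      rw [inv_mul_eq_iff_eq_mul] at h3
      exact h3.symm
    · intro h2
      calc h * ((h⁻¹ * f v)⁻¹ * y)⁻¹ * h⁻¹ * f w = h * (y⁻¹ * (h⁻¹ * f v * h⁻¹ * f w)) := by group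
        _ = h * y := by rw [← h2]; group
        _ = _ := by group
  have h2 : ∀ v : D, (∑ w : D, ((ψ v : ℂˣ) : ℂ) * ((ψ w⁻¹ : ℂˣ) : ℂ) *
      H692.SqRoot.sqrtCount G ((h⁻¹ * f v * h) * f w * (h * h))) =
      (Nat.card D : ℂ) * ∑ χ : IrrCharacter G, fsi (χ : G → ℂ) * w χ * (n χ : ℂ) := by
    intro v
    obtain ⟨v', hv1, hv2⟩ := hσ v
    rw [hv1]
    rw [← Equiv.sum_comp (Equiv.mulLeft v'⁻¹)]
    have e1 : ∀ u : D, ((ψ v : ℂˣ) : ℂ) * ((ψ (Equiv.mulLeft v'⁻¹ u)⁻¹ : ℂˣ) : ℂ) *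
        H692.SqRoot.sqrtCount G (f v' * f (Equiv.mulLeft v'⁻¹ u) * (h * h)) =
        ∑ χ : IrrCharacter G, fsi (χ : G → ℂ) * w χ * ((χ : G → ℂ) (f u) * ((ψ u⁻¹ : ℂˣ) : ℂ)) := by
      intro u
      change ((ψ v : ℂˣ) : ℂ) * ((ψ (v'⁻¹ * u)⁻¹ : ℂˣ) : ℂ) *
        H692.SqRoot.sqrtCount G (f v' * f (v'⁻¹ * u) * (h * h)) = _
      have eA : f v' * f (v'⁻¹ * u) = f u := by rw [← map_mul, mul_inv_cancel_left]
      rw [eA, H692.SqRoot.sqrtCount_eq_sum, mul_inv_rev, inv_inv, map_mul, hv2, Units.val_mul, Finset.mul_sum]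
      refine Finset.sum_congr rfl fun χ _ => ?_
      rw [hw, fsi_eq_nu]
      have e2 : ((ψ v : ℂˣ) : ℂ) * (((ψ v)⁻¹ : ℂˣ) : ℂ) = 1 := by
        rw [← Units.val_mul, mul_inv_cancel, Units.val_one]
      linear_combination (((ψ u⁻¹ : ℂˣ) : ℂ) * (H692.SqRoot.nu (χ : G → ℂ) * (w χ * (χ : G → ℂ) (f u)))) * e2
    rw [Finset.sum_congr rfl fun u _ => e1 u, Finset.sum_comm, Finset.mul_sum]
    refine Finset.sum_congr rfl fun χ _ => ?_
    rw [← Finset.mul_sum, hn]
    ring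
  rw [Finset.sum_comm]
  have h3 : ∀ v : D, (∑ y : G, ∑ w : D, if h * y⁻¹ * h⁻¹ * f w = f v * y then ((ψ v : ℂˣ) : ℂ) *
      ((ψ w⁻¹ : ℂˣ) : ℂ) else 0) = (Nat.card D : ℂ) * ∑ χ : IrrCharacter G, fsi (χ : G → ℂ) * w χ * (n χ : ℂ) := by
    intro v
    rw [Finset.sum_comm, Finset.sum_congr rfl fun w _ => h1 v w, h2]
  rw [Finset.sum_congr rfl fun v _ => h3 v, Finset.sum_const, Finset.card_univ, nsmul_eq_mul,
    Nat.card_eq_fintype_card]
  ring

/-- **The counting lemma.** -/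
theorem fs_gelfand [Finite G] [Fintype D] (f : D →* G) (ψ : D →* ℂˣ) {h : G}
    (hz : ∀ g, g * (h * h) = h * h * g) (hz2 : h * h * (h * h) = 1)
    (hσ : ∀ d, ∃ d', h⁻¹ * f d * h = f d' ∧ ψ d' = (ψ d)⁻¹) (hok : ∀ y, Ok f ψ h y)
    {χ : G → ℂ} (hχ : IsIrrCharacter G χ) (hne : ∑ d : D, χ (f d) * ((ψ d⁻¹ : ℂˣ) : ℂ) ≠ 0) :
    fsi χ * χ (h * h) = χ 1 ∧ ∑ d : D, χ (f d) * ((ψ d⁻¹ : ℂˣ) : ℂ) = Nat.card D := by
  classical
  have := Fintype.ofFinite G
  have := finite_irr (G := G)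
  have := Fintype.ofFinite (IrrCharacter G)
  choose n hn using fun χ : IrrCharacter G => exists_mult f ψ χ.2
  have hcz : h * h ∈ Subgroup.center G := Subgroup.mem_center_iff.2 hz
  choose w hw1 hw using fun χ : IrrCharacter G => CharDeep.DegreeBound.exists_omega χ.2 hcz
  -- the scalars are signs
  have hwsq : ∀ χ : IrrCharacter G, w χ = 1 ∨ w χ = -1 := by
    intro χ
    have h1 : (χ : G → ℂ) 1 ≠ 0 := isIrr_apply_one_ne_zero χ.2
    have h2 : (χ : G → ℂ) 1 = w χ * (w χ * (χ : G → ℂ) 1) := by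
      rw [← hw, ← hw, one_mul, hz2]
    have h3 : w χ * w χ = 1 := by
      apply mul_right_cancel₀ h1
      rw [one_mul, mul_assoc, ← h2]
    exact mul_self_eq_one_iff.1 h3
  have hD : (Nat.card D : ℂ) ≠ 0 := by
    have : Nonempty D := ⟨1⟩
    exact_mod_cast Nat.card_pos.ne'
  have h1 := sum_one f ψ n hn
  have h2 := sum_two f ψ n hn hz hz2 hσ w hw
  rw [Finset.sum_congr rfl fun y _ => inner_sum f ψ h hok y, h2] at h1
  have h3 := mul_left_cancel₀ (pow_ne_zero 2 hD) h1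
  -- integers
  have he : ∀ χ : IrrCharacter G, ∃ e : ℤ, e ≤ 1 ∧ fsi (χ : G → ℂ) * w χ = e := by
    intro χ
    rcases fsi_cases χ.2 with h4 | h4 | h4 <;> rcases hwsq χ with h5 | h5 <;> rw [h4, h5]
    · exact ⟨0, by norm_num, by norm_num⟩
    · exact ⟨0, by norm_num, by norm_num⟩
    · exact ⟨1, by norm_num, by norm_num⟩
    · exact ⟨-1, by norm_num, by norm_num⟩
    · exact ⟨-1, by norm_num, by norm_num⟩
    · exact ⟨1, by norm_num, by norm_num⟩
  choose e he1 he2 using he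
  have h4 : ∑ χ : IrrCharacter G, ((n χ : ℤ) * (n χ - e χ)) = 0 := by
    have h5 : ((∑ χ : IrrCharacter G, ((n χ : ℤ) * (n χ - e χ)) : ℤ) : ℂ) = 0 := by
      push_cast
      have : ∀ χ : IrrCharacter G, (n χ : ℂ) * (n χ - e χ) = (n χ : ℂ) ^ 2 - fsi (χ : G → ℂ) * w χ * n χ := by
        intro χ
        rw [he2]
        ring
      rw [Finset.sum_congr rfl fun χ _ => this χ, Finset.sum_sub_distrib, ← h3, sub_self]
    exact_mod_cast h5
  have h5 : ∀ χ : IrrCharacter G, 0 ≤ (n χ : ℤ) * (n χ - e χ) := by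
    intro χ
    rcases Nat.eq_zero_or_pos (n χ) with h6 | h6
    · rw [h6]; simp
    · refine mul_nonneg (by positivity) ?_
      have := he1 χ
      omega
  have h6 := (Finset.sum_eq_zero_iff_of_nonneg fun χ _ => h5 χ).1 h4 ⟨χ, hχ⟩ (Finset.mem_univ _)
  have h7 : n ⟨χ, hχ⟩ ≠ 0 := by
    intro h8
    apply hne
    rw [hn ⟨χ, hχ⟩, h8, Nat.cast_zero, mul_zero]
  have h8 : (n ⟨χ, hχ⟩ : ℤ) = e ⟨χ, hχ⟩ := by
    rcases mul_eq_zero.1 h6 with h9 | h9
    · exact absurd (by exact_mod_cast h9) h7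
    · omega
  have h9 := he1 ⟨χ, hχ⟩
  have h10 : n ⟨χ, hχ⟩ = 1 := by omega
  have h11 : e ⟨χ, hχ⟩ = 1 := by omega
  constructor
  · have h12 := he2 ⟨χ, hχ⟩
    rw [h11] at h12
    have h13 := hw ⟨χ, hχ⟩ 1
    rw [one_mul] at h13
    change χ (h * h) = w ⟨χ, hχ⟩ * χ 1 at h13
    change fsi χ * w ⟨χ, hχ⟩ = _ at h12
    rw [h13, ← mul_assoc, h12]
    simp
  · have h12 := hn ⟨χ, hχ⟩
    rw [h10] at h12
    rw [h12, Nat.cast_one, mul_one]

end gelf

end Cfsg.Agent.H969.FR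
end

-- part: H969/FR/Pair
section
/-!
# Linear characters of `up K` and of `SL(2,K)` for the counting lemma

* `GG K D`: `D → SL(2,K)` with a linear character which satisfies the hypotheses of the counting lemma for a
  factor `SL(2,K)`;
* `exists_GG`: every irreducible character of `SL(2,K)` lies over one of these.
-/

set_option autoImplicit false

universe u v

namespace Cfsg.Agent.H969.FR

open Cfsg Cfsg.Agent.H955.FS Cfsg.Agent.Characters.Core
open Cfsg.Agent.Cit.HexBase Cfsg.Agent.Lib.SL2Mat Cfsg.Agent.H991.SRD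
open scoped ComplexConjugate

/-! ### Characters of commutative groups, constituents -/

theorem irr_comm {A : Type*} [Group A] [Finite A] (hA : ∀ a b : A, a * b = b * a) {θ : A → ℂ}
    (hθ : IsIrrCharacter A θ) : ∃ l : A →* ℂˣ, θ = fun a => (l a : ℂ) := by
  have h1 : θ 1 = 1 := by
    obtain ⟨n, ρ, hρ, rfl⟩ := hθ
    have h2 := Characters.DegreeBounds.finrank_le_index_of_comm ρ (⊤ : Subgroup A) fun a _ b _ => hA a b
    have hpos := Characters.Central.finrank_pos_of_irr ρ hρ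
    rw [Representation.char_one]
    rw [Subgroup.index_top] at h2
    exact_mod_cast le_antisymm h2 hpos
  exact Characters.Linear.exists_hom_of_isIrrCharacter hθ h1

/-- a character of a commutative group without nontrivial linear constituents is constant -/
theorem const_of_sums {A : Type*} [Group A] [Fintype A] (hA : ∀ a b : A, a * b = b * a) {χ : A → ℂ}
    (hχ : IsCharacter A χ) (h : ∀ l : A →* ℂˣ, l ≠ 1 → ∑ a : A, χ a * ((l a⁻¹ : ℂˣ) : ℂ) = 0) (a : A) :
    χ a = χ 1 := by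
  classical
  have := finite_irr (G := A)
  have := Fintype.ofFinite (IrrCharacter A)
  obtain ⟨m, hm⟩ := exists_nat_comb hχ
  have h1 : ∀ θ : IrrCharacter A, m θ ≠ 0 → ∀ a : A, (θ : A → ℂ) a = 1 := by
    intro θ hθ a
    obtain ⟨l, hl⟩ := irr_comm hA θ.2
    by_cases hl1 : l = 1
    · rw [hl, hl1]
      rfl
    · exfalso
      have h2 := h l hl1
      have h3 : classInner χ (θ : A → ℂ) = m θ := by
        rw [hm]
        exact classInner_sum_nsmul_irr m θ
      have h4 : classInner χ (θ : A → ℂ) = 0 := by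
        rw [classInner_def, hl]
        have : ∑ g : A, χ g * conj ((l g : ℂ)) = ∑ a : A, χ a * ((l a⁻¹ : ℂˣ) : ℂ) :=
          Finset.sum_congr rfl fun g _ => by rw [conj_hom]
        rw [this, h2, mul_zero]
      rw [h4] at h3
      exact hθ (by exact_mod_cast h3.symm)
  have h2 : ∀ a : A, χ a = ∑ θ : IrrCharacter A, (m θ : ℂ) := by
    intro a
    rw [hm, Finset.sum_apply]
    refine Finset.sum_congr rfl fun θ _ => ?_
    rw [Pi.smul_apply, nsmul_eq_mul]
    by_cases hθ : m θ = 0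
    · rw [hθ, Nat.cast_zero, zero_mul]
    · rw [h1 θ hθ, mul_one]
  rw [h2, h2]

/-- sums over a constituent -/
theorem sum_ne_zero_of_constituent {A : Type u} {D : Type v} [Group A] [Fintype A] [Group D] [Fintype D] (j : D →* A)
    (ψ : D →* ℂˣ) {Θ : A → ℂ} (hΘ : IsCharacter A Θ) {θ : A → ℂ} (hθ : IsIrrCharacter A θ) (hθΘ : classInner Θ θ ≠ 0)
    (h : ∑ d : D, θ (j d) * ((ψ d⁻¹ : ℂˣ) : ℂ) ≠ 0) : ∑ d : D, Θ (j d) * ((ψ d⁻¹ : ℂˣ) : ℂ) ≠ 0 := by
  classical
  have := finite_irr (G := A)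
  have := Fintype.ofFinite (IrrCharacter A)
  obtain ⟨m, hm⟩ := exists_nat_comb hΘ
  choose n hn using fun θ : IrrCharacter A => exists_mult j ψ θ.2
  have h1 : ∑ d : D, Θ (j d) * ((ψ d⁻¹ : ℂˣ) : ℂ) = (Nat.card D : ℂ) * ((∑ θ : IrrCharacter A, m θ * n θ : ℕ) : ℂ) := by
    have h2 : ∀ d : D, Θ (j d) * ((ψ d⁻¹ : ℂˣ) : ℂ) =
        ∑ θ : IrrCharacter A, (m θ : ℂ) * ((θ : A → ℂ) (j d) * ((ψ d⁻¹ : ℂˣ) : ℂ)) := by
      intro d
      rw [hm, Finset.sum_apply, Finset.sum_mul]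
      refine Finset.sum_congr rfl fun θ _ => ?_
      rw [Pi.smul_apply, nsmul_eq_mul]
      ring
    rw [Finset.sum_congr rfl fun d _ => h2 d, Finset.sum_comm, Nat.cast_sum, Finset.mul_sum]
    refine Finset.sum_congr rfl fun θ _ => ?_
    rw [← Finset.mul_sum, hn]
    push_cast
    ring
  have hD : (Nat.card D : ℂ) ≠ 0 := by
    have : Nonempty D := ⟨1⟩
    exact_mod_cast Nat.card_pos.ne'
  rw [h1]
  intro h2
  rcases mul_eq_zero.1 h2 with h3 | h3
  · exact hD h3
  · have h4 : ∑ θ : IrrCharacter A, m θ * n θ = 0 := by exact_mod_cast h3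
    have h5 := (Finset.sum_eq_zero_iff.1 h4) ⟨θ, hθ⟩ (Finset.mem_univ _)
    rcases Nat.mul_eq_zero.1 h5 with h6 | h6
    · apply hθΘ
      have : classInner Θ θ = m ⟨θ, hθ⟩ := by
        rw [hm]
        exact classInner_sum_nsmul_irr m ⟨θ, hθ⟩
      rw [this, h6, Nat.cast_zero]
    · apply h
      have h7 := hn ⟨θ, hθ⟩
      rw [h6, Nat.cast_zero, mul_zero] at h7
      exact h7

theorem exists_constituent {A : Type u} [Group A] [Fintype A] {Θ : A → ℂ} (hΘ : IsCharacter A Θ) (h1 : Θ 1 ≠ 0) :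
    ∃ θ : A → ℂ, IsIrrCharacter A θ ∧ classInner Θ θ ≠ 0 := by
  classical
  have := finite_irr (G := A)
  have := Fintype.ofFinite (IrrCharacter A)
  obtain ⟨m, hm⟩ := exists_nat_comb hΘ
  by_contra hc
  push Not at hc
  apply h1
  rw [hm, Finset.sum_apply]
  refine Finset.sum_eq_zero fun θ _ => ?_
  have h2 : classInner Θ (θ : A → ℂ) = m θ := by
    rw [hm]
    exact classInner_sum_nsmul_irr m θ
  rw [hc θ θ.2] at h2
  have h3 : m θ = 0 := by exact_mod_cast h2.symm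
  rw [h3, zero_smul, Pi.zero_apply]

/-! ### The pairs -/

/-- a group over `SL(2,K)` with a linear character -/
structure GG (K : Type*) [Field K] (D : Type*) [Group D] where
  j : D →* SL2 K
  ψ : D →* ℂˣ
  inv : ∀ d, ∃ d', conjGL (dgl (-1) neg_one_ne) (j d) = j d' ∧ ψ d' = (ψ d)⁻¹
  key : ∀ (δ : K) (hδ : δ ≠ 0) (a : SL2 K),
    (∃ v : D, j v * conjGL (dgl (-1) neg_one_ne) (j v) = 1 ∧
      a * conjGL (dgl δ hδ) (j v) * conjGL (dgl δ hδ) (conjGL (dgl (-1) neg_one_ne) a) * dg δ hδ = j v) ∨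
    (∃ d d' : D, a * conjGL (dgl δ hδ) (j d) = j d' * a ∧ ψ d ≠ ψ d')

/-- all of `SL(2,K)` with the trivial character -/
def GG.all (K : Type*) [Field K] : GG K (SL2 K) where
  j := MonoidHom.id _
  ψ := 1
  inv := fun d => ⟨conjGL (dgl (-1) neg_one_ne) d, rfl, by simp⟩
  key := fun δ hδ a => Or.inl (exists_v hδ a)

/-- the unipotent subgroup with a nontrivial character -/
def GG.uni (K : Type*) [Field K] (l : Multiplicative K →* ℂˣ) (hl : l ≠ 1) : GG K (Multiplicative K) where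
  j :=
    { toFun := fun x => up x.toAdd
      map_one' := up_zero
      map_mul' := fun x y => (up_mul _ _).symm }
  ψ := l
  inv := fun d => by
    refine ⟨d⁻¹, ?_, map_inv _ _⟩
    change conjGL (dgl (-1) neg_one_ne) (up d.toAdd) = up (d⁻¹).toAdd
    rw [conjGL_dgl_up, toAdd_inv]
    congr 1
    ring
  key := fun δ hδ a => by
    by_cases hc : ent a 1 0 = 0
    · by_cases hd : ent a 1 1 = δ * ent a 0 0
      · left
        refine ⟨1, ?_⟩
        change up (0 : K) * conjGL (dgl (-1) neg_one_ne) (up 0) = 1 ∧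
          a * conjGL (dgl δ hδ) (up 0) * conjGL (dgl δ hδ) (conjGL (dgl (-1) neg_one_ne) a) * dg δ hδ = up 0
        refine key_sl hδ a _ (by rw [up_00, up_11]) ?_
        rw [up_00, up_01, up_10, hc, hd]
        ring
      · right
        have hdet := det_eq a
        rw [hc, mul_zero, sub_zero] at hdet
        have h00 : ent a 0 0 ≠ 0 := by
          intro h; rw [h, zero_mul] at hdet; exact zero_ne_one hdet
        have h11 : ent a 1 1 ≠ 0 := by
          intro h; rw [h, mul_zero] at hdet; exact zero_ne_one hdet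
        have hk : δ * ent a 0 0 / ent a 1 1 - 1 ≠ 0 := by
          intro h
          apply hd
          rw [sub_eq_zero, div_eq_one_iff_eq h11] at h
          exact h.symm
        obtain ⟨y, hy⟩ : ∃ y : Multiplicative K, l y ≠ 1 := by
          by_contra hcon
          push Not at hcon
          exact hl (MonoidHom.ext hcon)
        -- `x` with `(κ - 1) x = y`
        obtain ⟨x, hx⟩ : ∃ x : K, (δ * ent a 0 0 / ent a 1 1 - 1) * x = y.toAdd :=
          ⟨y.toAdd / (δ * ent a 0 0 / ent a 1 1 - 1), by field_simp⟩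
        refine ⟨Multiplicative.ofAdd x, Multiplicative.ofAdd (δ * ent a 0 0 / ent a 1 1 * x), ?_, ?_⟩
        · change a * conjGL (dgl δ hδ) (up x) = up (δ * ent a 0 0 / ent a 1 1 * x) * a
          rw [conjGL_dgl_up]
          refine ext_ent ?_ ?_ ?_ ?_ <;>
            simp only [ent_mul, up_00, up_01, up_10, up_11, hc] <;> field_simp <;> ring
        · intro h
          apply hy
          have e : y = Multiplicative.ofAdd (δ * ent a 0 0 / ent a 1 1 * x) * (Multiplicative.ofAdd x)⁻¹ := by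
            rw [← ofAdd_neg, ← ofAdd_add]
            have : δ * ent a 0 0 / ent a 1 1 * x + -x = y.toAdd := by rw [← hx]; ring
            rw [this, ofAdd_toAdd]
          rw [e, map_mul, map_inv, ← h, mul_inv_cancel]
    · left
      refine ⟨Multiplicative.ofAdd (-(ent a 1 1 - δ * ent a 0 0) / (δ * ent a 1 0)), ?_⟩
      refine key_sl hδ a _ (by change ent (up _) 0 0 = ent (up _) 1 1; rw [up_00, up_11]) ?_
      change ent (up _) 0 0 * _ + ent (up _) 0 1 * _ - ent (up _) 1 0 * _ = 0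
      simp only [up_00, up_01, up_10]
      change 1 * (ent a 1 1 - δ * ent a 0 0) + (-(ent a 1 1 - δ * ent a 0 0) / (δ * ent a 1 0)) * (δ * ent a 1 0) -
        0 * ent a 0 1 = 0
      field_simp
      ring

/-- every irreducible character of `SL(2,K)` lies over one of the characters -/
theorem exists_GG {K : Type v} [Field K] [Finite K] {α : SL2 K → ℂ} (hα : IsIrrCharacter (SL2 K) α) :
    ∃ (D : Type v) (_ : Group D) (_ : Fintype D) (g : GG K D), ∑ d : D, α (g.j d) * ((g.ψ d⁻¹ : ℂˣ) : ℂ) ≠ 0 := by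
  classical
  have := Fintype.ofFinite K
  have : Fintype (SL2 K) := Fintype.ofFinite _
  have : Fintype (Multiplicative K) := inferInstance
  by_cases h1 : ∀ x : K, α (up x) = α 1
  · -- `α` is constant
    refine ⟨SL2 K, inferInstance, inferInstance, GG.all K, ?_⟩
    obtain ⟨n, ρ, hρ, rfl⟩ := hα
    have hup : ∀ x : K, ρ (up x) = LinearMap.id := fun x => by
      refine (Characters.Values.character_eq_finrank_iff ρ _).1 ?_
      rw [h1, Representation.char_one]
    have hlo : ∀ x : K, ρ (lo x) = LinearMap.id := fun x => by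
      have e : lo x = wm 1 one_ne_zero * up (-x) * (wm 1 one_ne_zero)⁻¹ := by
        rw [wm_up]
        simp
      rw [e, map_mul, map_mul, hup]
      change ρ (wm 1 one_ne_zero) * 1 * ρ (wm 1 one_ne_zero)⁻¹ = 1
      rw [mul_one, ← map_mul, mul_inv_cancel, map_one]
    have hall : ∀ g : SL2 K, ρ g = 1 := by
      intro g
      obtain ⟨a, b, c, d, rfl⟩ := exists_up_lo g
      rw [map_mul, map_mul, map_mul, hup, hup, hlo, hlo]
      rfl
    have hch : ∀ g : SL2 K, ρ.character g = ρ.character 1 := fun g => by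
      rw [Representation.character, Representation.character, hall, hall]
    have h2 : ∀ d : SL2 K, ρ.character ((GG.all K).j d) * (((GG.all K).ψ d⁻¹ : ℂˣ) : ℂ) = ρ.character 1 := by
      intro d
      rw [hch]
      change ρ.character 1 * ((1 : ℂˣ) : ℂ) = _
      rw [Units.val_one, mul_one]
    rw [Finset.sum_congr rfl fun d _ => h2 d, Finset.sum_const, nsmul_eq_mul]
    refine mul_ne_zero ?_ (isIrr_apply_one_ne_zero ⟨n, ρ, hρ, rfl⟩)
    rw [Finset.card_univ]
    exact_mod_cast Fintype.card_ne_zero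
  · push Not at h1
    obtain ⟨x, hx⟩ := h1
    by_contra hcon
    push Not at hcon
    apply hx
    let j : Multiplicative K →* SL2 K :=
      { toFun := fun x => up x.toAdd
        map_one' := up_zero
        map_mul' := fun x y => (up_mul _ _).symm }
    have h2 := const_of_sums (A := Multiplicative K) (fun a b => mul_comm a b)
      (isCharacter_comp j (isIrr_isCharacter hα)) (fun l hl => by
        exact hcon (Multiplicative K) inferInstance inferInstance (GG.uni K l hl)) (Multiplicative.ofAdd x)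
    have h3 : j 1 = 1 := map_one j
    change α (up x) = α (j 1) at h2
    rw [h2, h3]

end Cfsg.Agent.H969.FR
end

-- part: H969/FR/HexOdd
section
/-!
# TEAM SR (S4970), row `³D₄(q)`, `q` odd: Frobenius-Schur indicators

* `fs_CZ`     : all indicators of `C(z)` are one (`C(z) = (SL(2,q^3) ∘ SL(2,q)) T`), by the counting lemma;
* `inv_cover` : if no centraliser of an involution has a character of indicator `-1`, neither has the group;
* `fsGood_hex`, `fr_3d4_odd`, `fr_g2_odd`.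
-/

set_option autoImplicit false

universe u v

namespace Cfsg.Agent.H969.FR

open Cfsg Cfsg.Agent.H955.FS Cfsg.Agent.Characters.Core Cfsg.Agent.H721.FR
open Cfsg.Agent.Cit.HexBase Cfsg.Agent.Lib.SL2Mat Cfsg.Agent.H991.SRD
open Cfsg.Agent.SplitTwo Cfsg.Agent.TitsThree.RankTwoZ
open scoped ComplexConjugate

section hex

variable {E : Type v} [Field E] {σ : E ≃+* E} {L : Type u} [Group L]

/-- the action of `z0` on the first factor -/
theorem z0_pb (c : HexGrp σ L) (x : SL2 E) : c.z0 * c.pb x = c.pb (conjGL (dgl (-1) neg_one_ne) x) * c.z0 := by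
  have := c.act_z0.pb x
  rw [← this]
  group

theorem z0_p4 (c : HexGrp σ L) [Finite E] (h2 : (2 : E) ≠ 0) (x : SL2 ↥(fx σ)) :
    c.z0 * c.p4 x = c.p4 (conjGL (dgl (-1) neg_one_ne) x) * c.z0 := by
  have := c.act_z0.p4 h2 x
  have e2 : dgl (⟨(1 : E) ^ 2 * nrm σ (-1 : E), c.act_z0.fix4⟩ : ↥(fx σ)) (HexGrp.sub_ne _ c.act_z0.ne4) =
      dgl (-1) neg_one_ne := by
    congr 1
    apply Subtype.ext
    change (1 : E) ^ 2 * nrm σ (-1 : E) = -1
    rw [nrm_of_fix (by rw [map_neg, map_one])]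
    ring
  rw [e2] at this
  rw [← this]
  group

/-- the torus element `pa (dg s)` -/
theorem hs_pb (c : HexGrp σ L) (s : ↥(fx σ)) (hs : s ≠ 0) (x : SL2 E) (hδ : (s : E)⁻¹ ≠ 0) :
    c.pa (dg s hs) * c.pb x = c.pb (conjGL (dgl (s : E)⁻¹ hδ) x) * c.pa (dg s hs) := by
  have := (c.act_a s hs).pb x
  rw [← this]
  group

theorem hs_p4 (c : HexGrp σ L) [Finite E] (h2 : (2 : E) ≠ 0) (s : ↥(fx σ)) (hs : s ≠ 0) (x : SL2 ↥(fx σ)) :
    c.pa (dg s hs) * c.p4 x = c.p4 (conjGL (dgl s hs) x) * c.pa (dg s hs) := by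
  have hs0 : (s : E) ≠ 0 := fun h => hs (Subtype.ext h)
  have hsf : σ (s : E) = s := s.2
  have := (c.act_a s hs).p4 h2 x
  have e2 : dgl (⟨((s : E) ^ 2) ^ 2 * nrm σ (s : E)⁻¹, (c.act_a s hs).fix4⟩ : ↥(fx σ))
      (HexGrp.sub_ne _ (c.act_a s hs).ne4) = dgl s hs := by
    congr 1
    apply Subtype.ext
    change ((s : E) ^ 2) ^ 2 * nrm σ (s : E)⁻¹ = s
    rw [nrm_inv, nrm_of_fix hsf]
    field_simp
  rw [e2] at this
  rw [← this]
  group

theorem hs_sq (c : HexGrp σ L) (s : ↥(fx σ)) (hs : s ≠ 0) (hδ : (s : E)⁻¹ ≠ 0) :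
    c.pa (dg s hs) * c.pa (dg s hs) = c.pb (dg (s : E)⁻¹ hδ) * c.p4 (dg s hs) := by
  have hs0 : (s : E) ≠ 0 := fun h => hs (Subtype.ext h)
  have hsf : σ (s : E) = s := s.2
  have hA := c.act_a s hs
  refine (hA.mul hA).unique (((c.act_b (s : E)⁻¹ hδ).mul (c.act_p4_dg s hs)).congr rfl ?_ ?_)
  · ring
  · rw [nrm_inv, nrm_of_fix hsf]
    field_simp

/-- the inverting involution -/
theorem inv_of_key (c : HexGrp σ L) [Finite E] (h2 : (2 : E) ≠ 0) (s : ↥(fx σ)) (hs : s ≠ 0) (hδ : (s : E)⁻¹ ≠ 0)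
    (a v : SL2 E) (b w : SL2 ↥(fx σ)) (hv1 : v * conjGL (dgl (-1) neg_one_ne) v = 1)
    (hv2 : a * conjGL (dgl (s : E)⁻¹ hδ) v * conjGL (dgl (s : E)⁻¹ hδ) (conjGL (dgl (-1) neg_one_ne) a) *
      dg (s : E)⁻¹ hδ = v)
    (hw1 : w * conjGL (dgl (-1) neg_one_ne) w = 1)
    (hw2 : b * conjGL (dgl s hs) w * conjGL (dgl s hs) (conjGL (dgl (-1) neg_one_ne) b) * dg s hs = w) :
    (c.pb v * c.p4 w * c.z0) * (c.pb v * c.p4 w * c.z0) = 1 ∧
    (c.pb v * c.p4 w * c.z0) * (c.pb a * c.p4 b * c.pa (dg s hs)) * (c.pb v * c.p4 w * c.z0)⁻¹ =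
      (c.pb a * c.p4 b * c.pa (dg s hs))⁻¹ := by
  obtain ⟨h, hh⟩ : ∃ h : L, h = c.pa (dg s hs) := ⟨_, rfl⟩
  have eh1 := fun x => hs_pb c s hs x hδ
  have eh4 := hs_p4 c h2 s hs
  have hsq := hs_sq c s hs hδ
  have ez1 := z0_pb c
  have ez4 := z0_p4 c h2
  have hzh : c.z0 * c.pa (dg s hs) = c.pa (dg s hs) * c.z0 := c.T0_comm ⟨_, _, c.act_z0⟩ ⟨_, _, c.act_a s hs⟩
  rw [← hh] at eh1 eh4 hsq hzh ⊢
  have hz2 := c.z0_sq
  have hcm := c.comm_pb_p4
  refine ⟨?_, ?_⟩
  · calc c.pb v * c.p4 w * c.z0 * (c.pb v * c.p4 w * c.z0)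
        = c.pb v * c.p4 w * (c.z0 * c.pb v) * c.p4 w * c.z0 := by group
      _ = c.pb v * c.p4 w * c.pb (conjGL (dgl (-1) neg_one_ne) v) * (c.z0 * c.p4 w) * c.z0 := by rw [ez1]; group
      _ = c.pb v * (c.p4 w * c.pb (conjGL (dgl (-1) neg_one_ne) v)) * c.p4 (conjGL (dgl (-1) neg_one_ne) w) *
          (c.z0 * c.z0) := by rw [ez4]; group
      _ = (c.pb v * c.pb (conjGL (dgl (-1) neg_one_ne) v)) * (c.p4 w * c.p4 (conjGL (dgl (-1) neg_one_ne) w)) *
          (c.z0 * c.z0) := by rw [← hcm]; group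
      _ = 1 := by rw [← map_mul, ← map_mul, hv1, hw1, hz2, map_one, map_one, mul_one, mul_one]
  · have key : (c.pb a * c.p4 b * h) * (c.pb v * c.p4 w * c.z0) * (c.pb a * c.p4 b * h) =
        c.pb v * c.p4 w * c.z0 := by
      calc (c.pb a * c.p4 b * h) * (c.pb v * c.p4 w * c.z0) * (c.pb a * c.p4 b * h)
          = c.pb a * c.p4 b * (h * c.pb v) * c.p4 w * (c.z0 * c.pb a) * c.p4 b * h := by group
        _ = c.pb a * c.p4 b * c.pb (conjGL (dgl (s : E)⁻¹ hδ) v) * (h * c.p4 w) *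
            c.pb (conjGL (dgl (-1) neg_one_ne) a) * (c.z0 * c.p4 b) * h := by rw [eh1, ez1]; group
        _ = c.pb a * c.p4 b * c.pb (conjGL (dgl (s : E)⁻¹ hδ) v) * c.p4 (conjGL (dgl s hs) w) * (h *
            c.pb (conjGL (dgl (-1) neg_one_ne) a)) * c.p4 (conjGL (dgl (-1) neg_one_ne) b) * (c.z0 * h) := by
              rw [eh4, ez4]; group
        _ = c.pb a * c.p4 b * c.pb (conjGL (dgl (s : E)⁻¹ hδ) v) * c.p4 (conjGL (dgl s hs) w) *
            c.pb (conjGL (dgl (s : E)⁻¹ hδ) (conjGL (dgl (-1) neg_one_ne) a)) *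
            (h * c.p4 (conjGL (dgl (-1) neg_one_ne) b)) * (h * c.z0) := by rw [eh1, hzh]; group
        _ = c.pb a * (c.p4 b * c.pb (conjGL (dgl (s : E)⁻¹ hδ) v)) * (c.p4 (conjGL (dgl s hs) w) *
            c.pb (conjGL (dgl (s : E)⁻¹ hδ) (conjGL (dgl (-1) neg_one_ne) a))) *
            c.p4 (conjGL (dgl s hs) (conjGL (dgl (-1) neg_one_ne) b)) * (h * h) * c.z0 := by rw [eh4]; group
        _ = (c.pb a * c.pb (conjGL (dgl (s : E)⁻¹ hδ) v)) * (c.p4 b *
            c.pb (conjGL (dgl (s : E)⁻¹ hδ) (conjGL (dgl (-1) neg_one_ne) a))) * c.p4 (conjGL (dgl s hs) w) *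
            c.p4 (conjGL (dgl s hs) (conjGL (dgl (-1) neg_one_ne) b)) *
            (c.pb (dg (s : E)⁻¹ hδ) * c.p4 (dg s hs)) * c.z0 := by rw [← hcm, ← hcm, hsq]; group
        _ = c.pb a * c.pb (conjGL (dgl (s : E)⁻¹ hδ) v) *
            c.pb (conjGL (dgl (s : E)⁻¹ hδ) (conjGL (dgl (-1) neg_one_ne) a)) * ((c.p4 b * c.p4 (conjGL (dgl s hs) w) *
            c.p4 (conjGL (dgl s hs) (conjGL (dgl (-1) neg_one_ne) b))) *
            c.pb (dg (s : E)⁻¹ hδ)) * c.p4 (dg s hs) * c.z0 := by rw [← hcm]; group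
        _ = c.pb (a * conjGL (dgl (s : E)⁻¹ hδ) v * conjGL (dgl (s : E)⁻¹ hδ) (conjGL (dgl (-1) neg_one_ne) a) *
              dg (s : E)⁻¹ hδ) * c.p4 (b * conjGL (dgl s hs) w *
              conjGL (dgl s hs) (conjGL (dgl (-1) neg_one_ne) b) * dg s hs) * c.z0 := by
              rw [← map_mul c.p4, ← map_mul c.p4, ← hcm]
              simp only [map_mul]
              group
        _ = c.pb v * c.p4 w * c.z0 := by rw [hv2, hw2]
    obtain ⟨g, hg⟩ : ∃ g : L, g = c.pb a * c.p4 b * h := ⟨_, rfl⟩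
    obtain ⟨t, ht⟩ : ∃ t : L, t = c.pb v * c.p4 w * c.z0 := ⟨_, rfl⟩
    rw [← hg, ← ht] at key ⊢
    calc t * g * t⁻¹ = g⁻¹ * (g * t * g) * t⁻¹ := by group
      _ = g⁻¹ := by rw [key]; group

/-- the product of the two factors -/
def F0 (c : HexGrp σ L) : SL2 E × SL2 ↥(fx σ) →* Subgroup.centralizer ({c.z} : Set L) :=
  MonoidHom.codRestrict (MonoidHom.noncommCoprod c.pb c.p4 fun x y => c.comm_pb_p4 x y) _ (by
    rintro ⟨x, y⟩
    rw [Subgroup.mem_centralizer_singleton_iff]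
    change c.pb x * c.p4 y * c.z = c.z * (c.pb x * c.p4 y)
    have h1 : c.pb x * c.z = c.z * c.pb x := by rw [c.z_eq_p4]; exact c.comm_pb_p4 _ _
    have h4 : c.p4 y * c.z = c.z * c.p4 y := (c.comm_pb_p4 _ _).symm
    rw [mul_assoc, h4, ← mul_assoc, h1, mul_assoc])

/-- `z0` in the centraliser -/
def zz (c : HexGrp σ L) : Subgroup.centralizer ({c.z} : Set L) :=
  ⟨c.z0, Subgroup.mem_centralizer_singleton_iff.2 c.z0_z⟩

theorem zz_sq (c : HexGrp σ L) : zz c * zz c = 1 := Subtype.ext c.z0_sq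

theorem zz_conj (c : HexGrp σ L) [Finite E] (h2 : (2 : E) ≠ 0) (x : SL2 E) (y : SL2 ↥(fx σ)) :
    (zz c)⁻¹ * F0 c (x, y) * zz c = F0 c (conjGL (dgl (-1) neg_one_ne) x, conjGL (dgl (-1) neg_one_ne) y) := by
  have h1 : (zz c)⁻¹ = zz c := inv_eq_of_mul_eq_one_left (zz_sq c)
  rw [h1]
  apply Subtype.ext
  change c.z0 * (c.pb x * c.p4 y) * c.z0 = c.pb _ * c.p4 _
  calc c.z0 * (c.pb x * c.p4 y) * c.z0 = (c.z0 * c.pb x) * c.p4 y * c.z0 := by group
    _ = c.pb (conjGL (dgl (-1) neg_one_ne) x) * (c.z0 * c.p4 y) * c.z0 := by rw [z0_pb]; group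
    _ = c.pb (conjGL (dgl (-1) neg_one_ne) x) * c.p4 (conjGL (dgl (-1) neg_one_ne) y) * (c.z0 * c.z0) := by
        rw [z0_p4 c h2]; group
    _ = _ := by rw [c.z0_sq, mul_one]

variable {D₁ : Type v} {D₂ : Type v} [Group D₁] [Group D₂]

/-- the homomorphism of the counting lemma -/
def fD (c : HexGrp σ L) (g₁ : GG E D₁) (g₂ : GG ↥(fx σ) D₂) :
    D₁ × D₂ →* Subgroup.centralizer ({c.z} : Set L) := (F0 c).comp (MonoidHom.prodMap g₁.j g₂.j)

/-- the linear character of the counting lemma -/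
def psD (g₁ : GG E D₁) (g₂ : GG ↥(fx σ) D₂) : D₁ × D₂ →* ℂˣ :=
  (g₁.ψ.comp (MonoidHom.fst D₁ D₂)) * (g₂.ψ.comp (MonoidHom.snd D₁ D₂))

theorem psD_apply (g₁ : GG E D₁) (g₂ : GG ↥(fx σ) D₂) (d : D₁ × D₂) :
    psD g₁ g₂ d = g₁.ψ d.1 * g₂.ψ d.2 := rfl

theorem ok_CZ (c : HexGrp σ L) [Finite E] (h2 : (2 : E) ≠ 0) (g₁ : GG E D₁) (g₂ : GG ↥(fx σ) D₂)
    (y : Subgroup.centralizer ({c.z} : Set L)) : Ok (fD c g₁ g₂) (psD g₁ g₂) (zz c) y := by
  obtain ⟨a, b, s, hs, hy⟩ := c.mem_CZ_form h2 (Subgroup.mem_centralizer_singleton_iff.1 y.2)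
  have hs0 : (s : E) ≠ 0 := fun h => hs (Subtype.ext h)
  have hδ : (s : E)⁻¹ ≠ 0 := inv_ne_zero hs0
  rcases g₁.key _ hδ a with ⟨v, hv1, hv2⟩ | ⟨d, d', h3, h4⟩
  · rcases g₂.key _ hs b with ⟨w, hw1, hw2⟩ | ⟨d, d', h3, h4⟩
    · -- the first alternative
      left
      obtain ⟨hk1, hk2⟩ := inv_of_key c h2 s hs hδ a (g₁.j v) b (g₂.j w) hv1 hv2 hw1 hw2
      rw [← hy] at hk2
      have ht : ((fD c g₁ g₂ (v, w) * zz c : _) : L) = c.pb (g₁.j v) * c.p4 (g₂.j w) * c.z0 := rfl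
      obtain ⟨v', hv3, -⟩ := g₁.inv v
      obtain ⟨w', hw3, -⟩ := g₂.inv w
      have e1 : (zz c)⁻¹ * fD c g₁ g₂ (v, w) * zz c = fD c g₁ g₂ (v', w') := by
        change (zz c)⁻¹ * F0 c (g₁.j v, g₂.j w) * zz c = F0 c (g₁.j v', g₂.j w')
        rw [zz_conj c h2, hv3, hw3]
      have e2 : (fD c g₁ g₂ (v, w) * zz c) * y * (fD c g₁ g₂ (v, w) * zz c)⁻¹ = y⁻¹ := by
        apply Subtype.ext
        exact hk2
      have hzi : (zz c)⁻¹ = zz c := inv_eq_of_mul_eq_one_left (zz_sq c)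
      refine ⟨(v', w'), (v', w')⁻¹, ?_, ?_⟩
      · rw [map_inv, ← e1, ← e2, hzi]
        have hz := zz_sq c
        calc zz c * (fD c g₁ g₂ (v, w) * zz c * y * (fD c g₁ g₂ (v, w) * zz c)⁻¹) * zz c =
            zz c * fD c g₁ g₂ (v, w) * zz c * y * ((zz c)⁻¹ * (fD c g₁ g₂ (v, w))⁻¹ * zz c) := by group
          _ = zz c * fD c g₁ g₂ (v, w) * zz c * y * (zz c * fD c g₁ g₂ (v, w) * zz c)⁻¹ := by
              rw [mul_inv_rev (zz c * _), mul_inv_rev (zz c), hzi]
              group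
      · rw [map_inv, mul_inv_cancel]
    · right
      refine ⟨(1, d), (1, d'), ?_, ?_⟩
      · apply Subtype.ext
        change (y : L) * (c.pb (g₁.j 1) * c.p4 (g₂.j d)) = (c.pb (g₁.j 1) * c.p4 (g₂.j d')) * y
        rw [hy, map_one, map_one, one_mul, one_mul]
        calc c.pb a * c.p4 b * c.pa (dg s hs) * c.p4 (g₂.j d) =
            c.pb a * c.p4 b * (c.pa (dg s hs) * c.p4 (g₂.j d)) := by group
          _ = c.pb a * (c.p4 b * c.p4 (conjGL (dgl s hs) (g₂.j d))) * c.pa (dg s hs) := by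
              rw [hs_p4 c h2]; group
          _ = (c.pb a * c.p4 (g₂.j d')) * c.p4 b * c.pa (dg s hs) := by rw [← map_mul, h3, map_mul]; group
          _ = _ := by rw [c.comm_pb_p4]; group
      · rw [psD_apply, psD_apply]
        simpa using h4
  · right
    refine ⟨(d, 1), (d', 1), ?_, ?_⟩
    · apply Subtype.ext
      change (y : L) * (c.pb (g₁.j d) * c.p4 (g₂.j 1)) = (c.pb (g₁.j d') * c.p4 (g₂.j 1)) * y
      rw [hy, map_one, map_one, mul_one, mul_one]
      calc c.pb a * c.p4 b * c.pa (dg s hs) * c.pb (g₁.j d) =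
          c.pb a * c.p4 b * (c.pa (dg s hs) * c.pb (g₁.j d)) := by group
        _ = c.pb a * (c.p4 b * c.pb (conjGL (dgl (s : E)⁻¹ hδ) (g₁.j d))) * c.pa (dg s hs) := by
            rw [hs_pb c s hs _ hδ]; group
        _ = c.pb a * c.pb (conjGL (dgl (s : E)⁻¹ hδ) (g₁.j d)) * c.p4 b * c.pa (dg s hs) := by
            rw [← c.comm_pb_p4]; group
        _ = _ := by rw [← map_mul, h3, map_mul]; group
    · rw [psD_apply, psD_apply]
      simpa using h4

/-- all indicators of `C(z)` are one -/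
theorem fs_CZ (c : HexGrp σ L) [Finite E] [Finite L] (h2 : (2 : E) ≠ 0) :
    FSGood False (Subgroup.centralizer ({c.z} : Set L)) := by
  classical
  intro χ hχ
  left
  have : Fintype (SL2 E × SL2 ↥(fx σ)) := Fintype.ofFinite _
  have hc := isCharacter_comp (F0 c) (isIrr_isCharacter hχ)
  have hc1 : (χ ∘ F0 c) 1 ≠ 0 := by
    rw [Function.comp_apply, map_one]
    exact isIrr_apply_one_ne_zero hχ
  obtain ⟨θ, hθ, hθ1⟩ := exists_constituent hc hc1
  obtain ⟨α, β, hα, hβ, rfl⟩ := (S0188.result θ).1 hθ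
  obtain ⟨D₁, i1, i2, g₁, hg₁⟩ := exists_GG hα
  obtain ⟨D₂, i3, i4, g₂, hg₂⟩ := exists_GG hβ
  have hne : ∑ d : D₁ × D₂, χ (fD c g₁ g₂ d) * ((psD g₁ g₂ d⁻¹ : ℂˣ) : ℂ) ≠ 0 := by
    refine (sum_ne_zero_of_constituent (MonoidHom.prodMap g₁.j g₂.j) (psD g₁ g₂) hc hθ hθ1 ?_ :)
    rw [Fintype.sum_prod_type]
    have : ∀ (x : D₁) (y : D₂), (fun x : SL2 E × SL2 ↥(fx σ) => α x.1 * β x.2)
        ((MonoidHom.prodMap g₁.j g₂.j) (x, y)) * ((psD g₁ g₂ (x, y)⁻¹ : ℂˣ) : ℂ) =
        (α (g₁.j x) * ((g₁.ψ x⁻¹ : ℂˣ) : ℂ)) * (β (g₂.j y) * ((g₂.ψ y⁻¹ : ℂˣ) : ℂ)) := by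
      intro x y
      rw [psD_apply]
      change α (g₁.j x) * β (g₂.j y) * ((g₁.ψ x⁻¹ * g₂.ψ y⁻¹ : ℂˣ) : ℂ) = _
      rw [Units.val_mul]
      ring
    rw [Finset.sum_congr rfl fun x _ => Finset.sum_congr rfl fun y _ => this x y, ← Finset.sum_mul_sum]
    exact mul_ne_zero hg₁ hg₂
  have h1 := (fs_gelfand (fD c g₁ g₂) (psD g₁ g₂) (h := zz c) (by rw [zz_sq]; intro g; rw [mul_one, one_mul])
    (by rw [zz_sq, mul_one]) ?_ (ok_CZ c h2 g₁ g₂) hχ hne).1
  · rw [zz_sq] at h1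
    exact mul_right_cancel₀ (isIrr_apply_one_ne_zero hχ) (by rw [h1, one_mul])
  · rintro ⟨d₁, d₂⟩
    obtain ⟨d₁', h3, h4⟩ := g₁.inv d₁
    obtain ⟨d₂', h5, h6⟩ := g₂.inv d₂
    refine ⟨(d₁', d₂'), ?_, ?_⟩
    · change (zz c)⁻¹ * F0 c (g₁.j d₁, g₂.j d₂) * zz c = F0 c (g₁.j d₁', g₂.j d₂')
      rw [zz_conj c h2, h3, h5]
    · rw [psD_apply, psD_apply]
      change g₁.ψ d₁' * g₂.ψ d₂' = (g₁.ψ d₁ * g₂.ψ d₂)⁻¹
      rw [h4, h6, mul_inv]

end hex

end Cfsg.Agent.H969.FR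
end

-- part: H969/FR/InvCover
section
/-!
# The cover by centralisers of involutions

* `fsGood_dihedral`: the group `<c>:<t>`, `c` of odd order inverted by the involution `t`;
* `inv_cover`      : if no centraliser of an involution has an irreducible character of indicator `-1`, neither has
  the group.
-/

set_option autoImplicit false

universe u

namespace Cfsg.Agent.H969.FR

open Cfsg Cfsg.Agent.H955.FS

variable {G : Type u} [Group G]

theorem inv_zpow {c t : G} (htc : t * c * t⁻¹ = c⁻¹) (i : ℤ) : t * c ^ i = c ^ (-i) * t := by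
  have h1 : t * c ^ i * t⁻¹ = c ^ (-i) := by
    rw [← conj_zpow, htc, inv_zpow', zpow_neg]
  rw [← h1]
  group

/-- the group `<c>:<t>` -/
def dih (c t : G) (ht : t * t = 1) (htc : t * c * t⁻¹ = c⁻¹) : Subgroup G where
  carrier := {x | ∃ i : ℤ, x = c ^ i ∨ x = c ^ i * t}
  mul_mem' := by
    rintro x y ⟨i, hi | hi⟩ ⟨j, hj | hj⟩
    · exact ⟨i + j, Or.inl (by rw [hi, hj, zpow_add])⟩
    · exact ⟨i + j, Or.inr (by rw [hi, hj, zpow_add, mul_assoc])⟩
    · refine ⟨i - j, Or.inr ?_⟩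
      rw [hi, hj, mul_assoc, inv_zpow htc, ← mul_assoc, ← zpow_add, sub_eq_add_neg]
    · refine ⟨i - j, Or.inl ?_⟩
      rw [hi, hj, mul_assoc, ← mul_assoc t, inv_zpow htc, mul_assoc, ht, mul_one, ← zpow_add, sub_eq_add_neg]
  one_mem' := ⟨0, Or.inl (zpow_zero _).symm⟩
  inv_mem' := by
    have hti : t⁻¹ = t := inv_eq_of_mul_eq_one_left ht
    rintro x ⟨i, hi | hi⟩
    · exact ⟨-i, Or.inl (by rw [hi, zpow_neg])⟩
    · refine ⟨i, Or.inr ?_⟩
      rw [hi, mul_inv_rev, hti, ← zpow_neg, inv_zpow htc, neg_neg]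

/-- a dihedral group -/
theorem fsGood_dihedral [Finite G] {c t : G} (hc : Odd (orderOf c)) (ht : t * t = 1) (htc : t * c * t⁻¹ = c⁻¹) :
    FSGood True (dih c t ht htc) := by
  let C : Subgroup (dih c t ht htc) := (Subgroup.zpowers c).subgroupOf (dih c t ht htc)
  have hle : Subgroup.zpowers c ≤ dih c t ht htc := by
    rw [Subgroup.zpowers_le]
    exact ⟨1, Or.inl (zpow_one c).symm⟩
  refine (fsGood_of_compl C ?_ ?_).mono fun _ => trivial
  · have e : Nat.card C = Nat.card (Subgroup.zpowers c) := Nat.card_congr (Subgroup.subgroupOfEquivOfLe hle).toEquiv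
    rw [e, Nat.card_zpowers]
    exact hc
  · rintro ⟨x, i, hi | hi⟩ hx
    · exact absurd (Subgroup.mem_subgroupOf.2 (Subgroup.mem_zpowers_iff.2 ⟨i, hi.symm⟩)) hx
    · apply Subtype.ext
      change x * x = 1
      rw [hi, mul_assoc, ← mul_assoc t, inv_zpow htc, mul_assoc, ht, mul_one, ← zpow_add, add_neg_cancel, zpow_zero]

theorem fsGood_zpowers [Finite G] {c : G} (hc : Odd (orderOf c)) : FSGood True (Subgroup.zpowers c) := by
  refine (fsGood_of_compl (⊤ : Subgroup (Subgroup.zpowers c)) ?_ ?_).mono fun _ => trivial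
  · rw [Subgroup.card_top, Nat.card_zpowers]
    exact hc
  · intro x hx
    exact absurd (Subgroup.mem_top x) hx

/-- the condition on `P` in the covering principle -/
theorem comm_or {c t : G} (h : t * c * t⁻¹ = c ∨ t * c * t⁻¹ = c⁻¹) {d : G} (hd : d * c = c * d) :
    t * d * t⁻¹ * c = c * (t * d * t⁻¹) := by
  have hd4 : d * c⁻¹ = c⁻¹ * d := by
    calc d * c⁻¹ = c⁻¹ * (c * d) * c⁻¹ := by group
      _ = c⁻¹ * (d * c) * c⁻¹ := by rw [hd]
      _ = c⁻¹ * d := by group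
  rcases h with h1 | h1
  · have h2 : t⁻¹ * c = c * t⁻¹ := by
      calc t⁻¹ * c = t⁻¹ * (t * c * t⁻¹) := by rw [h1]
        _ = c * t⁻¹ := by group
    have h3 : t * c = c * t := by rw [← mul_inv_eq_iff_eq_mul]; exact h1
    calc t * d * t⁻¹ * c = t * d * (t⁻¹ * c) := by group
      _ = t * (d * c) * t⁻¹ := by rw [h2]; group
      _ = (t * c) * d * t⁻¹ := by rw [hd]; group
      _ = c * (t * d * t⁻¹) := by rw [h3]; group
  · have h2 : t⁻¹ * c = c⁻¹ * t⁻¹ := by
      calc t⁻¹ * c = t⁻¹ * (c⁻¹)⁻¹ := by rw [inv_inv]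
        _ = t⁻¹ * (t * c * t⁻¹)⁻¹ := by rw [h1]
        _ = c⁻¹ * t⁻¹ := by group
    have h4 : t * c⁻¹ = c * t := by
      calc t * c⁻¹ = (t * c * t⁻¹)⁻¹ * t := by group
        _ = c * t := by rw [h1, inv_inv]
    calc t * d * t⁻¹ * c = t * d * (t⁻¹ * c) := by group
      _ = t * (d * c⁻¹) * t⁻¹ := by rw [h2]; group
      _ = (t * c⁻¹) * d * t⁻¹ := by rw [hd4]; group
      _ = c * (t * d * t⁻¹) := by rw [h4]; group

/-- **if no centraliser of an involution has a character of indicator `-1`, neither has the group** -/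
theorem inv_cover [Finite G]
    (h : ∀ t : G, t * t = 1 → t ≠ 1 → FSGood True (Subgroup.centralizer ({t} : Set G))) : FSGood True G := by
  refine fsGood_of_cover fun c hc P hP hcP => ?_
  obtain ⟨C, hC⟩ : ∃ C : Subgroup G, C = Subgroup.centralizer ({c} : Set G) := ⟨_, rfl⟩
  have hCm : ∀ x, x ∈ C ↔ x * c = c * x := fun x => by rw [hC, Subgroup.mem_centralizer_singleton_iff]
  by_cases h0 : P ⊓ C = ⊥
  · -- `P` has order at most two
    have key : ∀ x ∈ P, x * c = c * x → x = 1 := fun x hx hxc => by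
      have : x ∈ P ⊓ C := ⟨hx, (hCm x).2 hxc⟩
      rwa [h0, Subgroup.mem_bot] at this
    by_cases h1 : ∃ t ∈ P, t ≠ 1
    · obtain ⟨t, htP, ht1⟩ := h1
      have hinv : ∀ x ∈ P, x ≠ 1 → x * c * x⁻¹ = c⁻¹ := fun x hx hx1 => by
        rcases hcP x hx with h2 | h2
        · exact absurd (key x hx (by rw [← mul_inv_eq_iff_eq_mul]; exact h2)) hx1
        · exact h2
      have hprod : ∀ x ∈ P, ∀ y ∈ P, x ≠ 1 → y ≠ 1 → x * y = 1 := fun x hx y hy hx1 hy1 => by
        refine key _ (mul_mem hx hy) ?_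
        rw [← mul_inv_eq_iff_eq_mul]
        calc x * y * c * (x * y)⁻¹ = x * (y * c * y⁻¹) * x⁻¹ := by group
          _ = (x * c * x⁻¹)⁻¹ := by rw [hinv y hy hy1]; group
          _ = c := by rw [hinv x hx hx1, inv_inv]
      have htt := hprod t htP t htP ht1 ht1
      refine ⟨dih c t htt (hinv t htP ht1), ⟨1, Or.inl (zpow_one c).symm⟩, fun x hx => ?_,
        fsGood_dihedral hc htt _⟩
      by_cases hx1 : x = 1
      · rw [hx1]; exact one_mem _
      · refine ⟨0, Or.inr ?_⟩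
        rw [zpow_zero, one_mul]
        have h2 := hprod x hx t htP hx1 ht1
        rw [← htt] at h2
        exact mul_right_cancel h2
    · push Not at h1
      exact ⟨Subgroup.zpowers c, Subgroup.mem_zpowers c, fun x hx => by rw [h1 x hx]; exact one_mem _,
        fsGood_zpowers hc⟩
  · have hn : ∀ t ∈ P, ∀ d ∈ P ⊓ C, t * d * t⁻¹ ∈ P ⊓ C := fun t ht d hd =>
      ⟨P.mul_mem (P.mul_mem ht hd.1) (P.inv_mem ht), (hCm _).2 (comm_or (hcP t ht) ((hCm d).1 hd.2))⟩
    obtain ⟨w, hw, hw1, hwc⟩ := Characters.CNBasic.exists_mem_center_of_normal P hP (P ⊓ C)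
      (hP.to_le inf_le_left) h0 hn
    obtain ⟨m, hm⟩ := (IsPGroup.iff_orderOf.1 hP) ⟨w, hw.1⟩
    rw [← Subgroup.orderOf_coe] at hm
    change orderOf w = 2 ^ m at hm
    rcases m with _ | m
    · rw [pow_zero] at hm
      exact absurd (orderOf_eq_one_iff.1 hm) hw1
    have ho : orderOf (w ^ 2 ^ m) = 2 := by
      rw [orderOf_pow' _ (by positivity), hm, Nat.gcd_eq_right (pow_dvd_pow 2 (Nat.le_succ m)), pow_succ,
        Nat.mul_div_cancel_left _ (by positivity)]
    have h3 : w ^ 2 ^ m * w ^ 2 ^ m = 1 := by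
      have := pow_orderOf_eq_one (w ^ 2 ^ m)
      rwa [ho, pow_two] at this
    have h4 : w ^ 2 ^ m ≠ 1 := by
      intro h5
      rw [h5, orderOf_one] at ho
      exact absurd ho (by norm_num)
    refine ⟨Subgroup.centralizer ({w ^ 2 ^ m} : Set G), ?_, fun x hx => ?_, h _ h3 h4⟩
    · rw [Subgroup.mem_centralizer_singleton_iff]
      have h5 : Commute w c := (hCm w).1 hw.2
      exact (h5.pow_left _).eq.symm
    · rw [Subgroup.mem_centralizer_singleton_iff]
      have h5 : Commute x w := hwc x hx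
      exact (h5.pow_right _).eq

end Cfsg.Agent.H969.FR
end

-- part: H969/FR/TDFour
section
/-!
# TEAM SR (S4970): rows `³D₄(q)` and `G₂(q)`, `q` odd
-/

set_option autoImplicit false

universe u v

namespace Cfsg.Agent.H969.FR

open Cfsg Cfsg.Agent.H955.FS Cfsg.Agent.H721.FR
open Cfsg.Agent.Cit.HexBase

/-- a finite group of hexagon type in odd characteristic has no character of indicator `-1` -/
theorem fsGood_hex {E : Type v} [Field E] {σ : E ≃+* E} {L : Type u} [Group L] (c : HexGrp σ L) [Finite E] [Finite L]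
    (h2 : (2 : E) ≠ 0) : FSGood True L := by
  refine inv_cover fun t ht ht1 => ?_
  obtain ⟨x, hx⟩ := isConj_iff.1 (c.isConj_z h2 ht ht1)
  have e : (Subgroup.centralizer ({c.z} : Set L)).map (MulAut.conj x⁻¹).toMonoidHom =
      Subgroup.centralizer ({t} : Set L) := by
    ext g
    rw [Subgroup.mem_map]
    constructor
    · rintro ⟨y, hy, rfl⟩
      rw [Subgroup.mem_centralizer_singleton_iff] at hy ⊢
      change x⁻¹ * y * x⁻¹⁻¹ * t = t * (x⁻¹ * y * x⁻¹⁻¹)
      rw [inv_inv]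
      calc x⁻¹ * y * x * t = x⁻¹ * (y * (x * t * x⁻¹)) * x := by group
        _ = x⁻¹ * ((x * t * x⁻¹) * y) * x := by rw [hx, hy]
        _ = t * (x⁻¹ * y * x) := by group
    · intro hg
      rw [Subgroup.mem_centralizer_singleton_iff] at hg
      refine ⟨x * g * x⁻¹, ?_, ?_⟩
      · rw [Subgroup.mem_centralizer_singleton_iff, ← hx]
        calc x * g * x⁻¹ * (x * t * x⁻¹) = x * (g * t) * x⁻¹ := by group
          _ = x * t * x⁻¹ * (x * g * x⁻¹) := by rw [hg]; group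
      · change x⁻¹ * (x * g * x⁻¹) * x⁻¹⁻¹ = g
        group
  have h3 : FSGood True (Subgroup.centralizer ({c.z} : Set L)) := (fs_CZ c h2).mono False.elim
  have h4 := h3.of_equiv (Subgroup.equivMapOfInjective _ (MulAut.conj x⁻¹).toMonoidHom (MulAut.conj x⁻¹).injective)
  rwa [e] at h4

/-- isomorphisms between different universes -/
theorem fsGood_congr {G : Type u} {H : Type v} [Group G] [Group H] (e : G ≃* H) {w : Prop} (h : FSGood w G) :
    FSGood w H := by
  intro χ hχ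
  have h1 := h (χ ∘ e) (Characters.Core.isIrr_comp e.toMonoidHom e.surjective hχ)
  have h2 : fsi (χ ∘ e) = fsi χ := by
    unfold fsi
    rw [Nat.card_congr e.toEquiv]
    congr 1
    rw [← finsum_comp_equiv e.toEquiv]
    refine finsum_congr fun s => ?_
    change χ (e (s * s)) = χ (e s * e s)
    rw [map_mul]
  rwa [h2] at h1

/-- **`³D₄(q)`, `q` odd**: no indicator is `-1` -/
theorem good_3d4_odd {S : Type u} [Group S] {K : Type} [Field K] [Fintype K] {q : ℕ}
    (hK : Fintype.card K = q ^ 3) (hq : Odd q) (e : S ≃* Cfsg.Lie.twistedD4 K q) : FSGood True S := by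
  have h2 : (2 : K) ≠ 0 := Cfsg.Agent.H588.UnfLie.two_ne_of_odd (by rw [hK]; exact hq.pow)
  obtain ⟨σ, -, ⟨c⟩⟩ := Cfsg.Agent.Cit.HexD4.exists_d4 hK
  exact fsGood_congr e.symm (fsGood_hex c h2)

/-- **`³D₄(q)`, `q` odd** -/
theorem fr_3d4_odd {S : Type u} [Group S] {K : Type} [Field K] [Fintype K] {q : ℕ}
    (hK : Fintype.card K = q ^ 3) (hq : Odd q) (e : S ≃* Cfsg.Lie.twistedD4 K q) : FR S := by
  have : Finite S := Finite.of_equiv _ e.symm.toEquiv
  exact FR.of_good (good_3d4_odd hK hq e)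

end Cfsg.Agent.H969.FR
end

-- part: H168/FRHex/Rows
section
/-!
# Team SR, second part (S4970): the row `³D₄(q)` (helper168)
-/

set_option autoImplicit false

universe u

namespace Cfsg.Agent.H168.FRHex.Rows

open Cfsg Cfsg.Lie Cfsg.Agent.StdRank2.Hex Cfsg.Agent.H955.FS Cfsg.Agent.H721.FR Cfsg.Agent.HexModel.Main

/-- **`³D₄(q)`, `q` even**: no indicator is `-1` -/
theorem good_d4 {K : Type u} [Field K] [Fintype K] {q : ℕ} (hq : IsPrimePow q) (hK : Fintype.card K = q ^ 3)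
    (h2 : (2 : K) = 0) : FSGood True ↥(twistedD4 K q) := by
  obtain ⟨p, a, hp, ha, rfl⟩ := hq
  have hp2 : p = 2 := by
    have h3 : p ∣ Fintype.card K := by rw [hK]; exact dvd_pow (dvd_pow_self p ha.ne') (by norm_num)
    have hchar : CharP K 2 := by
      rw [CharP.charP_iff_prime_eq_zero Nat.prime_two]
      exact_mod_cast h2
    obtain ⟨n, -, hn⟩ := FiniteField.card K 2
    rw [hn] at h3
    exact (Nat.prime_dvd_prime_iff_eq hp.nat_prime Nat.prime_two).1 (hp.nat_prime.dvd_of_dvd_pow h3)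
  subst hp2
  have hK' : Fintype.card K = 8 ^ a := by
    rw [hK, ← pow_mul, mul_comm, pow_mul]; norm_num
  obtain ⟨σ, hσ, h3, -, -⟩ := exists_sigma ha hK'
  have : Finite (GL chevD4.Idx K) := inferInstance
  refine good_of_long_two (d4_hexTwo hσ h2 h3) (d4_top hσ h2) fun χ hχ hk => ?_
  obtain ⟨z, hz, hz', hne⟩ := hk
  rcases Cfsg.Agent.H893.FR.long_two (d4_hexTwo hσ h2 h3) hχ ⟨⟨z, hz'⟩, hz, hne⟩ with h | h
  · exact Or.inl h
  · exact Or.inr ⟨trivial, h⟩

/-- **`³D₄(q)`, `q` even** -/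
theorem good_3d4_even {S : Type u} [Group S] {K : Type} [Field K] [Fintype K] {q : ℕ} (hq : IsPrimePow q)
    (hK : Fintype.card K = q ^ 3) (h2 : (2 : K) = 0) (e : S ≃* twistedD4 K q) : FSGood True S :=
  Cfsg.Agent.H969.FR.fsGood_congr e.symm (good_d4 hq hK h2)

/-- **`³D₄(q)`, `q` even** -/
theorem fr_3d4_even {S : Type u} [Group S] {K : Type} [Field K] [Fintype K] {q : ℕ} (hq : IsPrimePow q)
    (hK : Fintype.card K = q ^ 3) (h2 : (2 : K) = 0) (e : S ≃* twistedD4 K q) : FR S := by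
  have : Finite S := Finite.of_equiv _ e.symm.toEquiv
  exact FR.of_good (good_3d4_even hq hK h2 e)

/-- **Row `³D₄(q)` of S4970** -/
theorem fr_3d4 {S : Type u} [Group S] (h : Iso3D4 S) : FR S := by
  obtain ⟨K, _, _, q, hq, hK, ⟨e⟩⟩ := h
  by_cases h2 : (2 : K) = 0
  · exact fr_3d4_even hq hK h2 e
  · refine Cfsg.Agent.H969.FR.fr_3d4_odd hK ?_ e
    rw [← Nat.not_even_iff_odd]
    intro he
    apply h2
    obtain ⟨p, hp⟩ := CharP.exists K
    obtain ⟨n, hpp, hc⟩ := FiniteField.card K p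
    have h3 : 2 ∣ p := by
      refine Nat.prime_two.dvd_of_dvd_pow (n := n) ?_
      rw [← hc, hK]
      exact Dvd.dvd.pow he.two_dvd (by norm_num)
    have h4 : 2 = p := (Nat.prime_dvd_prime_iff_eq Nat.prime_two hpp).1 h3
    subst h4
    exact_mod_cast CharP.cast_eq_zero K 2

end Cfsg.Agent.H168.FRHex.Rows
end

private theorem dce_8db648b6e591 : _root_.True := by
  try have : _root_.True := by simp only [_root_.Cfsg.Agent.H692.SqRoot.sqrtCount.eq_1]
  exact _root_.True.intro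
end

-- part: H778/FR/Fin
section
prune_inst 0xe0104620202202000018000240006000200000000000040084610000010100620d00200122000101480000000001002000000000420000000a0000000004010000004000a308010c260008000000410000000000000000000000000000000000004010000
set_option linter.all false
open scoped Cfsg.Agent.FastGrp

-- part: H778/FR/Asm
section
/-!
# S4970 (FR-FIN, helper778): the assembly with the rows as hypotheses

* `Rows` : the rows (in `Type`);
* `fr_known` : all non-abelian known simple groups have `FR`;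
* `main` : the statement of `S4970` from the rows, the classification in `Type` and `S4971` (as hypotheses).
-/

set_option autoImplicit false

namespace Cfsg.Agent.H778.FRF

open Cfsg Cfsg.Agent.H955.FS Cfsg.Agent.H721.FR Cfsg.Agent.H721.SR

universe u

/-- the rows, in `Type` -/
structure Rows : Prop where
  alt : ∀ {S : Type} [Group S] [Finite S], IsAlternating S → FR S
  psl : ∀ {S : Type} [Group S] [Finite S], IsPSL S → FR S
  psp : ∀ {S : Type} [Group S] [Finite S], IsPSp S → FR S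
  psu : ∀ {S : Type} [Group S] [Finite S], IsPSU S → FR S
  oodd : ∀ {S : Type} [Group S] [Finite S], IsPOmegaOdd S → FR S
  oplus : ∀ {S : Type} [Group S] [Finite S], IsPOmegaPlus S → FR S
  ominus : ∀ {S : Type} [Group S] [Finite S], IsPOmegaMinus S → FR S
  g2 : ∀ {S : Type} [Group S] [Finite S], Lie.IsoChevG2 S → FR S
  f4 : ∀ {S : Type} [Group S] [Finite S], Lie.IsoF4 S → FR S
  e6 : ∀ {S : Type} [Group S] [Finite S], Lie.IsoChevE6 S → FR S
  e7 : ∀ {S : Type} [Group S] [Finite S], Lie.IsoE7 S → FR S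
  e8 : ∀ {S : Type} [Group S] [Finite S], Lie.IsoE8 S → FR S
  te6 : ∀ {S : Type} [Group S] [Finite S], Lie.Iso2E6 S → FR S
  td4 : ∀ {S : Type} [Group S] [Finite S], Lie.Iso3D4 S → FR S
  sz : ∀ {S : Type} [Group S] [Finite S], Lie.IsoSuzuki S → FR S
  ree : ∀ {S : Type} [Group S] [Finite S], Lie.IsoRee S → FR S
  tf4 : ∀ {S : Type} [Group S] [Finite S], Lie.Iso2F4 S → FR S
  tits : ∀ {S : Type} [Group S] [Finite S], Lie.IsoTits S → FR S
  spor : ∀ {S : Type} [Group S] [Finite S], IsSporadicGroup S → FR S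

theorem fr_known (R : Rows) {S : Type} [Group S] [Finite S] (hna : ¬ IsMulCommutative S) (h : IsKnownSimple' S) : FR S := by
  rcases h with h | h | h | h | h | h | h | h | h | h
  · exfalso
    have : Fact (Nat.card S).Prime := ⟨h⟩
    have : IsCyclic S := isCyclic_of_prime_card (p := Nat.card S) rfl
    exact hna (IsCyclic.isMulCommutative (α := S))
  · exact R.alt h
  · exact R.psl h
  · exact R.psp h
  · exact R.psu h
  · exact R.oodd h
  · exact R.oplus h
  · exact R.ominus h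
  · rcases h with h | h | h | h | h | h | h | h | h | h | h
    · exact R.g2 h
    · exact R.f4 h
    · exact R.e6 h
    · exact R.e7 h
    · exact R.e8 h
    · exact R.te6 h
    · exact R.td4 h
    · exact R.sz h
    · exact R.ree h
    · exact R.tf4 h
    · exact R.tits h
  · exact R.spor h

/-- a finite group is isomorphic to a group in `Type` -/
theorem exists_zero (G : Type u) [Group G] [Finite G] : ∃ (H : Type) (_ : Group H), Nonempty (G ≃* H) := by
  obtain ⟨n, ⟨e⟩⟩ := Finite.exists_equiv_fin G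
  have : Small.{0} G := ⟨⟨Fin n, ⟨e⟩⟩⟩
  exact ⟨Shrink.{0} G, inferInstance, ⟨(Shrink.mulEquiv (α := G)).symm⟩⟩

theorem fr_of_simple (R : Rows)
    (hK : ∀ (X : Type) [Group X] [Finite X] [IsSimpleGroup X], IsKnownSimple' X) {G : Type u} [Group G] [Finite G]
    (hS : IsSimpleGroup G) (hna : ¬ IsMulCommutative G) : FR G := by
  obtain ⟨H, _, ⟨e⟩⟩ := exists_zero G
  have : Finite H := Finite.of_equiv G e.toEquiv
  have : IsSimpleGroup H := (MulEquiv.isSimpleGroup_congr e).1 hS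
  refine fr_congr e.symm (fr_known R (fun hc => hna ⟨⟨fun a b => e.injective ?_⟩⟩) (hK H))
  rw [map_mul, map_mul]
  exact hc.is_comm.comm _ _

/-- **S4970** from the rows, the classification and S4971 -/
theorem main (R : Rows)
    (hK : ∀ (X : Type) [Group X] [Finite X] [IsSimpleGroup X], IsKnownSimple' X) {G : Type u} [Group G] [Finite G]
    (hS : IsSimpleGroup G) (hna : ¬ IsMulCommutative G)
    (h71 : (∀ g : G, IsConj g g⁻¹) → ∀ g : G, ∃ s t : G, s * s = 1 ∧ t * t = 1 ∧ g = s * t) :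
    (∀ χ : Cfsg.IrrCharacter G, (Nat.card G : ℂ)⁻¹ * ∑ᶠ s : G, (χ : G → ℂ) (s * s) = 1) ↔
      (∀ g : G, ∃ s t : G, s * s = 1 ∧ t * t = 1 ∧ g = s * t) := by
  constructor
  · intro h
    have hg : FSGood False G := fun χ hχ => Or.inl (h ⟨χ, hχ⟩)
    exact h71 hg.isConj_inv
  · intro h χ
    have hr : ∀ g : G, IsConj g g⁻¹ := by
      intro g
      obtain ⟨s, t, hs, ht, rfl⟩ := h g
      exact (sr_of_mul hs ht).real
    rcases fr_of_simple R hK hS hna hr χ.1 χ.2 with h1 | h1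
    · exact h1
    · exact h1.1.elim

end Cfsg.Agent.H778.FRF
end

-- part: H778/FR/NRSpor
section
/-!
# S4970 (FR-FIN, helper778): the sporadic groups (J1, J2 as hypotheses)
-/

set_option autoImplicit false

namespace Cfsg.Agent.H778.FRF

open Cfsg Cfsg.Agent.H955.FS Cfsg.Agent.H721.FR Cfsg.Agent.H721.SR

universe u

theorem fr_spor_of {S : Type u} [Group S] (j1 : Spor.IsoJ1 S → FR S) (j2 : Spor.IsoJ2 S → FR S)
    (h : IsSporadicGroup S) : FR S := by
  rcases h with h | h | h | h | h | h | h | h | h | h | h | h | h | h | h | h | h | h | h | h | h | h | h | h | h | h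
  · exact .of_nrel (H291.SR.Mathieu.nrel_m11 h)
  · exact .of_nrel (H291.SR.Mathieu.nrel_m12 h)
  · exact .of_nrel (H291.SR.Mathieu.nrel_m22 h)
  · exact .of_nrel (H291.SR.Mathieu.nrel_m23 h)
  · exact .of_nrel (H291.SR.Mathieu.nrel_m24 h)
  · exact j1 h
  · exact j2 h
  · exact .of_nrel (H306.SR.nrel_j3 h)
  · exact .of_nrel (H32.SR.nrel_j4 h)
  · exact .of_nrel (H220.SR.Conway.nrel_co1 h)
  · exact .of_nrel (H220.SR.Conway.nrel_co2 h)
  · exact .of_nrel (H220.SR.Conway.nrel_co3 h)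
  · exact .of_nrel (H306.SR.nrel_mcl h)
  · exact .of_nrel (H306.SR.nrel_hs h)
  · exact .of_nrel (H291.SR.Suz.nrel_suz h)
  · exact .of_nrel (H291.SR.He.nrel_he h)
  · exact .of_nrel (H29.RuR.nrel_ru h)
  · exact .of_nrel (H560.SRON.nrel_on h)
  · exact .of_nrel (H973.SR.nrel_ly h)
  · exact .of_nrel (H559.SR.nrel_fi22 h)
  · exact .of_nrel (H559.SR.nrel_fi23 h)
  · exact .of_nrel (H559.SR.nrel_fi24 h)
  · exact .of_nrel (H560.SRHN.nrel_hn h)
  · exact .of_nrel (H973.SR.nrel_th h)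
  · exact .of_nrel (H243.SRB.nrel_b h)
  · exact .of_nrel (H243.SRM.nrel_m h)

end Cfsg.Agent.H778.FRF
end

-- part: H778/FR/NRLie
section
/-!
# S4970 (FR-FIN, helper778): families of Lie type with a non-real element
-/

set_option autoImplicit false

namespace Cfsg.Agent.H778.FRF

open Cfsg Cfsg.Lie Cfsg.Agent.H955.FS Cfsg.Agent.H721.FR Cfsg.Agent.H721.SR

universe u

theorem fr_psu {S : Type u} [Group S] (h : IsPSU S) : FR S := by
  obtain ⟨F, _, _, n, q, hF, hn, h32, ⟨e⟩⟩ := h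
  exact .of_nrel (NRel.congr e.symm (H834.SR.nrel_psu hF hn h32))

theorem fr_g2 {S : Type u} [Group S] (h : IsoChevG2 S) : FR S := by
  obtain ⟨F, _, _, -, ⟨e⟩⟩ := h
  exact .of_nrel (NRel.congr e.symm (H473.SR.nrel_g2 F))

theorem fr_f4 {S : Type u} [Group S] (h : IsoF4 S) : FR S := by
  obtain ⟨F, _, _, ⟨e⟩⟩ := h
  exact .of_nrel (NRel.congr e.symm H196.SRX.nrel_f4)

theorem fr_e8 {S : Type u} [Group S] (h : IsoE8 S) : FR S := by
  obtain ⟨F, _, _, ⟨e⟩⟩ := h
  exact .of_nrel (NRel.congr e.symm H196.SRX.nrel_e8)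

theorem fr_e7 {S : Type u} [Group S] (h : IsoE7 S) : FR S := .of_nrel (H315.SR.nrel_isoE7 h)

theorem fr_2f4 {S : Type u} [Group S] (h : Iso2F4 S) : FR S := .of_nrel (H368.SR.TwF.nrel_2F4 h)

theorem fr_tits {S : Type u} [Group S] (h : IsoTits S) : FR S := .of_nrel (H368.SR.TwF.nrel_tits h)

theorem fr_e6 {S : Type u} [Group S] (h : IsoChevE6 S) : FR S := .of_nrel (H116.SR.nrel_of_isoE6 h)

theorem fr_2e6 {S : Type u} [Group S] (h : Iso2E6 S) : FR S := .of_nrel (H116.SR.nrel_of_iso2E6 h)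

theorem fr_sz {S : Type u} [Group S] (h : IsoSuzuki S) : FR S := .of_nrel (H686.SR.SzRee.nrel_sz h)

theorem fr_ree {S : Type u} [Group S] (h : IsoRee S) : FR S := .of_nrel (H686.SR.SzRee.nrel_ree h)

end Cfsg.Agent.H778.FRF
end

-- part: H140/FR/Inv
section
/-!
# Indicators and inversion by elements of a subgroup (helper140, TEAM SR, S4970)

If every element of `G` is inverted by an element of `H` and all Frobenius-Schur indicators of `H` are one, then all
indicators of `G` are one (the restriction to `H` is then multiplicity free).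
-/

set_option autoImplicit false

universe u v

namespace Cfsg.Agent.H140.FR

open Cfsg Cfsg.Agent.H955.FS Cfsg.Agent.H721.FR
open Cfsg.Agent.Characters.Core
open scoped ComplexConjugate

/-- a character of a group all of whose indicators are one -/
theorem char_bound {H : Type v} [Group H] [Fintype H] (hH : FSGood False H) {θ : H → ℂ} (hθ : IsCharacter H θ) :
    ∃ n a : ℕ, fsi θ = n ∧ classInner θ θ = a ∧ n ≤ a := by
  classical
  have := finite_irr (G := H)
  have := Fintype.ofFinite (IrrCharacter H)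
  obtain ⟨m, hm⟩ := exists_nat_comb hθ
  refine ⟨∑ ψ : IrrCharacter H, m ψ, ∑ ψ : IrrCharacter H, m ψ * m ψ, ?_, ?_, ?_⟩
  · rw [fsi_eq_sum, hm]
    simp only [Finset.sum_apply, Pi.smul_apply]
    rw [Finset.sum_comm, Finset.mul_sum, Nat.cast_sum]
    refine Finset.sum_congr rfl fun ψ _ => ?_
    rw [← Finset.smul_sum, nsmul_eq_mul, mul_left_comm, ← fsi_eq_sum]
    rcases hH ψ ψ.2 with h | h
    · rw [h, mul_one]
    · exact h.1.elim
  · have h1 : θ = ∑ ψ : IrrCharacter H, (m ψ : ℂ) • (ψ : H → ℂ) := by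
      rw [hm]
      refine Finset.sum_congr rfl fun ψ _ => ?_
      rw [Nat.cast_smul_eq_nsmul]
    rw [h1, classInner_sum_smul_sum_smul]
    push_cast
    refine Finset.sum_congr rfl fun ψ _ => ?_
    rw [Complex.conj_natCast]
  · exact Finset.sum_le_sum fun ψ _ => Nat.le_mul_self _

theorem sum_card {G : Type u} [Fintype G] {H : Type v} [Fintype H] (P : H → G → Prop) :
    ∑ y : H, Nat.card {a : G // P y a} = Nat.card {p : H × G // P p.1 p.2} := by
  rw [← Nat.card_sigma]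
  exact Nat.card_congr ⟨fun p => ⟨(p.1, p.2.1), p.2.2⟩, fun p => ⟨p.1.1, p.1.2, p.2⟩, fun _ => rfl, fun _ => rfl⟩

/-- the counting bijection -/
theorem card_eq {G : Type u} [Group G] [Fintype G] {H : Type v} [Group H] [Fintype H] (ι : H →* G)
    (hinv : ∀ g : G, ∃ h : H, ι h * g * (ι h)⁻¹ = g⁻¹) :
    ∑ y : H, Nat.card {a : G // a * ι y * a⁻¹ = ι y} = ∑ y : H, Nat.card {x : G // x * x = ι (y * y)} := by
  classical
  choose t ht using hinv
  rw [sum_card, sum_card]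
  have key : ∀ k y : G, k * y * k⁻¹ = y ↔ y * k * y⁻¹ = k := by
    intro k y
    rw [mul_inv_eq_iff_eq_mul, mul_inv_eq_iff_eq_mul, eq_comm]
  refine Nat.card_congr ⟨fun p => ⟨(t p.1.2 * p.1.1, p.1.2 * ι (t p.1.2 * p.1.1)), ?_⟩,
    fun p => ⟨((t (p.1.2 * (ι p.1.1)⁻¹))⁻¹ * p.1.1, p.1.2 * (ι p.1.1)⁻¹), ?_⟩, ?_, ?_⟩
  · obtain ⟨⟨y, k⟩, hk⟩ := p
    dsimp only at hk ⊢
    have h1 : ι y * k * (ι y)⁻¹ = k := (key _ _).1 hk
    have h2 := ht k
    -- `(k y')² = y'²` with `y' k = k⁻¹ y'`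
    have h3 : ι (t k) * ι y * k = k⁻¹ * (ι (t k) * ι y) := by
      calc ι (t k) * ι y * k = ι (t k) * (ι y * k * (ι y)⁻¹) * ι y := by group
        _ = ι (t k) * k * (ι (t k))⁻¹ * (ι (t k) * ι y) := by rw [h1]; group
        _ = _ := by rw [h2]
    rw [map_mul ι (t k * y), map_mul ι (t k)]
    calc k * (ι (t k) * ι y) * (k * (ι (t k) * ι y)) = k * (ι (t k) * ι y * k) * (ι (t k) * ι y) := by group
      _ = k * (k⁻¹ * (ι (t k) * ι y)) * (ι (t k) * ι y) := by rw [h3]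
      _ = ι (t k) * ι y * (ι (t k) * ι y) := by group
  · obtain ⟨⟨y, x⟩, hx⟩ := p
    dsimp only at hx ⊢
    have h2 := ht (x * (ι y)⁻¹)
    rw [map_mul] at hx
    have h3 : ι y * (x * (ι y)⁻¹) * (ι y)⁻¹ = (x * (ι y)⁻¹)⁻¹ := by
      have h4 : x * (x * (ι y)⁻¹ * (ι y)⁻¹) = 1 := by
        calc x * (x * (ι y)⁻¹ * (ι y)⁻¹) = (x * x) * (ι y)⁻¹ * (ι y)⁻¹ := by group
          _ = 1 := by rw [hx]; group
      have h5 : x * (ι y)⁻¹ * (ι y)⁻¹ = x⁻¹ := eq_inv_of_mul_eq_one_right h4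
      calc ι y * (x * (ι y)⁻¹) * (ι y)⁻¹ = ι y * (x * (ι y)⁻¹ * (ι y)⁻¹) := by group
        _ = ι y * x⁻¹ := by rw [h5]
        _ = (x * (ι y)⁻¹)⁻¹ := by group
    generalize x * (ι y)⁻¹ = k at h2 h3 ⊢
    rw [key, map_mul, map_inv]
    calc (ι (t k))⁻¹ * ι y * k * ((ι (t k))⁻¹ * ι y)⁻¹ = (ι (t k))⁻¹ * (ι y * k * (ι y)⁻¹) * ι (t k) := by group
      _ = (ι (t k))⁻¹ * (ι (t k) * k * (ι (t k))⁻¹) * ι (t k) := by rw [h3, h2]
      _ = k := by group
  · rintro ⟨⟨y, k⟩, hk⟩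
    have h1 : k * ι (t k * y) * (ι (t k * y))⁻¹ = k := by group
    refine Subtype.ext (Prod.ext ?_ h1)
    show (t (k * ι (t k * y) * (ι (t k * y))⁻¹))⁻¹ * (t k * y) = y
    rw [h1, inv_mul_cancel_left]
  · rintro ⟨⟨y, x⟩, hx⟩
    have h1 : t (x * (ι y)⁻¹) * ((t (x * (ι y)⁻¹))⁻¹ * y) = y := mul_inv_cancel_left _ _
    refine Subtype.ext (Prod.ext h1 ?_)
    show x * (ι y)⁻¹ * ι (t (x * (ι y)⁻¹) * ((t (x * (ι y)⁻¹))⁻¹ * y)) = x
    rw [h1, inv_mul_cancel_right]

/-- **Inversion by elements of a subgroup.** -/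
theorem FSGood.of_inv {G : Type u} [Group G] [Finite G] {H : Type v} [Group H] [Finite H] (ι : H →* G)
    (hH : FSGood False H) (hinv : ∀ g : G, ∃ h : H, ι h * g * (ι h)⁻¹ = g⁻¹) : FSGood False G := by
  classical
  have := Fintype.ofFinite G
  have := Fintype.ofFinite H
  have := finite_irr (G := G)
  have := Fintype.ofFinite (IrrCharacter G)
  have hcH : (Nat.card H : ℂ) ≠ 0 := by exact_mod_cast Nat.card_pos.ne'
  choose n a hn ha hle using fun χ : IrrCharacter G =>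
    char_bound hH (isCharacter_comp ι (isIrr_isCharacter χ.2))
  have he : ∀ χ : IrrCharacter G, ∃ e : ℤ, fsi (χ : G → ℂ) = e ∧ e ≤ 1 := by
    intro χ
    rcases fsi_cases χ.2 with h | h | h
    · exact ⟨0, by rw [h]; simp, by norm_num⟩
    · exact ⟨1, by rw [h]; simp, le_refl _⟩
    · exact ⟨-1, by rw [h]; simp, by norm_num⟩
  choose e he he1 using he
  -- the two sums
  have hsum : ∑ χ : IrrCharacter G, (a χ : ℂ) = ∑ χ : IrrCharacter G, (e χ : ℂ) * n χ := by
    have h1 : ∀ χ : IrrCharacter G, (a χ : ℂ) = (Nat.card H : ℂ)⁻¹ * ∑ y : H, (χ : G → ℂ) (ι y) * conj ((χ : G → ℂ) (ι y)) :=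
      fun χ => (ha χ).symm
    have h2 : ∀ χ : IrrCharacter G, (e χ : ℂ) * n χ =
        (Nat.card H : ℂ)⁻¹ * ∑ y : H, H692.SqRoot.nu (χ : G → ℂ) * (χ : G → ℂ) (ι (y * y)) := by
      intro χ
      rw [← he, ← hn, fsi_eq_nu (χ : G → ℂ), fsi_eq_sum, ← Finset.mul_sum]
      simp only [Function.comp_apply]
      ring
    simp only [h1, h2]
    rw [← Finset.mul_sum, ← Finset.mul_sum, Finset.sum_comm, Finset.sum_comm (s := Finset.univ (α := IrrCharacter G))]
    congr 1
    have h3 := card_eq ι hinv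
    have h4 : (∑ y : H, (Nat.card {a : G // a * ι y * a⁻¹ = ι y} : ℂ)) =
        ∑ y : H, (Nat.card {x : G // x * x = ι (y * y)} : ℂ) := by exact_mod_cast h3
    have h5 : ∀ y : H, ∑ χ : IrrCharacter G, (χ : G → ℂ) (ι y) * conj ((χ : G → ℂ) (ι y)) =
        (Nat.card {a : G // a * ι y * a⁻¹ = ι y} : ℂ) := fun y => (S0848.column_orth _ _).symm
    have h6 : ∀ y : H, ∑ χ : IrrCharacter G, H692.SqRoot.nu (χ : G → ℂ) * (χ : G → ℂ) (ι (y * y)) =
        (Nat.card {x : G // x * x = ι (y * y)} : ℂ) := fun y => (H692.SqRoot.sqrtCount_eq_sum _).symm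
    simp only [h5, h6, h4]
  have hsum' : ∑ χ : IrrCharacter G, ((a χ : ℤ) - e χ * n χ) = 0 := by
    rw [Finset.sum_sub_distrib, sub_eq_zero]
    exact_mod_cast hsum
  have hnn : ∀ χ ∈ (Finset.univ : Finset (IrrCharacter G)), 0 ≤ (a χ : ℤ) - e χ * n χ := by
    intro χ _
    have h1 : e χ * n χ ≤ 1 * n χ := Int.mul_le_mul_of_nonneg_right (he1 χ) (Int.natCast_nonneg _)
    have h2 : (n χ : ℤ) ≤ a χ := by exact_mod_cast hle χ
    omega
  have hz := (Finset.sum_eq_zero_iff_of_nonneg hnn).1 hsum'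
  intro χ hχ
  left
  have h1 := hz ⟨χ, hχ⟩ (Finset.mem_univ _)
  have h2 : a ⟨χ, hχ⟩ ≠ 0 := by
    intro h0
    have h3 := ha ⟨χ, hχ⟩
    rw [h0, Nat.cast_zero] at h3
    have h4 := congrFun (classInner_self_eq_zero h3) 1
    obtain ⟨d, hd, hd1⟩ := isIrr_apply_one hχ
    have h5 : χ (ι 1) = 0 := h4
    rw [map_one, hd1] at h5
    exact hd.ne' (by exact_mod_cast h5)
  have h3 : 0 < e ⟨χ, hχ⟩ * n ⟨χ, hχ⟩ := by
    have : 0 < a ⟨χ, hχ⟩ := Nat.pos_of_ne_zero h2
    omega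
  have h4 : 0 < e ⟨χ, hχ⟩ := pos_of_mul_pos_left h3 (Int.natCast_nonneg _)
  have h5 : e ⟨χ, hχ⟩ = 1 := by have := he1 ⟨χ, hχ⟩; omega
  rw [he ⟨χ, hχ⟩, h5]
  norm_num

/-- transfer between universes -/
theorem FSGood.transfer {G : Type u} [Group G] [Finite G] {H : Type v} [Group H] [Finite H] (e : H ≃* G)
    (hH : FSGood False H) : FSGood False G := by
  refine FSGood.of_inv e.toMonoidHom hH fun g => ?_
  obtain ⟨c, hc⟩ := isConj_iff.1 (hH.isConj_inv (e.symm g))
  refine ⟨c, ?_⟩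
  have h1 := congrArg e hc
  simpa only [_root_.MulEquiv.toMonoidHom_eq_coe, _root_.MonoidHom.coe_coe, _root_.map_mul, _root_.MulEquiv.apply_symm_apply, _root_.map_inv] using h1

end Cfsg.Agent.H140.FR
end

-- part: H140/FR/Sym
section
/-!
# The indicators of the symmetric groups (helper140, TEAM SR, S4970)
-/

set_option autoImplicit false

universe u v

namespace Cfsg.Agent.H140.FR

open Cfsg Cfsg.Agent.H955.FS Cfsg.Agent.H721.FR

/-- every permutation is inverted by a permutation which fixes a given point -/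
theorem exists_inv {α : Type u} (g : Equiv.Perm α) (a : α) :
    ∃ h : Equiv.Perm α, h a = a ∧ h * g * h⁻¹ = g⁻¹ := by
  classical
  let s : Setoid α := Equiv.Perm.SameCycle.setoid g
  -- representatives
  let r : α → α := fun x => if g.SameCycle a x then a else Quotient.out (Quotient.mk s x)
  have hr1 : ∀ x, g.SameCycle (r x) x := by
    intro x
    by_cases hx : g.SameCycle a x
    · simp only [r, if_pos hx]; exact hx
    · simp only [r, if_neg hx]
      exact Quotient.exact (Quotient.out_eq (Quotient.mk s x))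
  have hr2 : ∀ x y, g.SameCycle x y → r x = r y := by
    intro x y hxy
    by_cases hx : g.SameCycle a x
    · simp only [r, if_pos hx, if_pos (hx.trans hxy)]
    · have hy : ¬ g.SameCycle a y := fun h => hx (h.trans hxy.symm)
      simp only [r, if_neg hx, if_neg hy]
      rw [show Quotient.mk s x = Quotient.mk s y from Quotient.sound hxy]
  have hra : r a = a := by simp only [r, if_pos (Equiv.Perm.SameCycle.refl g a)]
  choose k hk using hr1
  -- `(g ^ m) z = (g ^ n) z` implies `(g ^ (-m)) z = (g ^ (-n)) z`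
  have key : ∀ (m n : ℤ) (z : α), (g ^ m) z = (g ^ n) z → (g ^ (-m)) z = (g ^ (-n)) z := by
    intro m n z h
    have h1 : (g ^ (-m - n)) ((g ^ m) z) = (g ^ (-m - n)) ((g ^ n) z) := by rw [h]
    rw [← Equiv.Perm.mul_apply, ← Equiv.Perm.mul_apply, ← zpow_add, ← zpow_add] at h1
    have e1 : -m - n + m = -n := by ring
    have e2 : -m - n + n = -m := by ring
    rw [e1, e2] at h1
    exact h1.symm
  let h : α → α := fun x => (g ^ (-(k x))) (r x)
  have hsc : ∀ x, g.SameCycle x (h x) := fun x =>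
    (Equiv.Perm.SameCycle.symm ⟨k x, hk x⟩).trans ⟨-(k x), rfl⟩
  have hhx : ∀ x (m : ℤ), (g ^ m) (r x) = x → h x = (g ^ (-m)) (r x) := by
    intro x m hm
    exact key _ _ _ ((hk x).trans hm.symm)
  have hinv : Function.Involutive h := by
    intro x
    have h1 : r (h x) = r x := (hr2 _ _ (hsc x)).symm
    have h2 := hhx (h x) (-(k x)) (by rw [h1])
    rw [h2, neg_neg, h1, hk]
  have hg : ∀ x, h (g x) = g⁻¹ (h x) := by
    intro x
    have h1 : r (g x) = r x := (hr2 _ _ (Equiv.Perm.sameCycle_apply_right.2 (Equiv.Perm.SameCycle.refl g x))).symm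
    have h2 := hhx (g x) (1 + k x) (by
      rw [h1, zpow_add, Equiv.Perm.mul_apply, hk, zpow_one])
    rw [h2, h1]
    show _ = g⁻¹ ((g ^ (-(k x))) (r x))
    have e1 : -(1 + k x) = -1 + -(k x) := by ring
    rw [e1, zpow_add, Equiv.Perm.mul_apply, zpow_neg_one]
  refine ⟨hinv.toPerm h, ?_, ?_⟩
  · show h a = a
    have h1 := hhx a 0 (by rw [hra]; rfl)
    rw [h1, hra]
    rfl
  · rw [mul_inv_eq_iff_eq_mul]
    ext x
    exact hg x

/-- **The indicators of the symmetric groups are one.** -/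
theorem fsGood_perm (n : ℕ) : ∀ (α : Type u) [Finite α], Nat.card α = n → FSGood False (Equiv.Perm α) := by
  induction n with
  | zero =>
    intro α _ hα
    have : IsEmpty α := (Nat.card_eq_zero.1 hα).resolve_right (fun h => h.false)
    have hs : Subsingleton (Equiv.Perm α) := ⟨fun f g => by ext x; exact isEmptyElim x⟩
    refine ((fsz_one_iff (G := Equiv.Perm α)).1 ?_).of_isConj_inv fun g => by rw [Subsingleton.elim g⁻¹ g]
    intro χ hχ h0
    have := Fintype.ofFinite (Equiv.Perm α)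
    rw [fsi_eq_sum] at h0
    have h1 : ∑ s : Equiv.Perm α, χ (s * s) = χ 1 := by
      rw [Fintype.sum_subsingleton _ (1 : Equiv.Perm α), one_mul]
    have h2 : Nat.card (Equiv.Perm α) = 1 := Nat.card_unique
    rw [h1, h2] at h0
    obtain ⟨d, hd, hd1⟩ := Characters.Core.isIrr_apply_one hχ
    rw [hd1] at h0
    have h3 : ((d * d + d : ℕ) : ℂ) = 0 := by
      push_cast
      linear_combination h0
    have h4 : d * d + d = 0 := by exact_mod_cast h3
    omega
  | succ n ih =>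
    intro α _ hα
    classical
    have hne : Nonempty α := by
      rw [← Finite.card_pos_iff, hα]; omega
    obtain ⟨a⟩ := hne
    have hcard : Nat.card {x : α // x ≠ a} = n := by
      have := Fintype.ofFinite α
      rw [Nat.card_eq_fintype_card] at hα ⊢
      rw [Fintype.card_subtype_compl, Fintype.card_subtype_eq, hα]
      rfl
    refine FSGood.of_inv (H := Equiv.Perm {x : α // x ≠ a}) Equiv.Perm.ofSubtype (ih _ hcard) fun g => ?_
    obtain ⟨h, ha, hg⟩ := exists_inv g a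
    have hp : ∀ x, h x ≠ a ↔ x ≠ a := by
      intro x
      rw [not_iff_not]
      constructor
      · intro hx
        apply h.injective
        rw [hx, ha]
      · rintro rfl
        exact ha
    refine ⟨h.subtypePerm hp, ?_⟩
    rw [Equiv.Perm.ofSubtype_subtypePerm]
    · exact hg
    · intro x hx
      rintro rfl
      exact hx ha

theorem fsGood_perm' (α : Type u) [Finite α] : FSGood False (Equiv.Perm α) := fsGood_perm _ α rfl

end Cfsg.Agent.H140.FR
end

-- part: H140/FR/Alt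
section
/-!
# The row `A_n` (helper140, TEAM SR, S4970)
-/

set_option autoImplicit false

universe u v

namespace Cfsg.Agent.H140.FR

open Cfsg Cfsg.Agent.H955.FS Cfsg.Agent.H721.FR

/-- transfer of the row predicate between universes -/
theorem fr_transfer {G : Type u} [Group G] [Finite G] {H : Type v} [Group H] [Finite H] (e : H ≃* G)
    (h : FR H) : FR G := by
  intro hr
  refine FSGood.transfer e (h fun g => ?_)
  obtain ⟨x, hx⟩ := isConj_iff.1 (hr (e g))
  refine isConj_iff.2 ⟨e.symm x, e.injective ?_⟩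
  simpa only [_root_.map_mul, _root_.MulEquiv.apply_symm_apply, _root_.map_inv] using hx

/-- the row `A_n`, from the lemma on subgroups of index two -/
theorem fr_alt_of (hI2 : ∀ {G : Type} [Group G] [Finite G] (N : Subgroup G), N.index = 2 → FSGood False G →
    (∀ g : N, IsConj g g⁻¹) → FSGood False N) {S : Type u} [Group S] [Finite S] (h : Cfsg.IsAlternating S) :
    FR S := by
  obtain ⟨n, hn, ⟨e⟩⟩ := h
  refine fr_transfer e.symm fun hr => ?_
  have : Nontrivial (Fin n) := Fin.nontrivial_iff_two_le.2 (by omega)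
  exact hI2 (alternatingGroup (Fin n)) alternatingGroup.index_eq_two (fsGood_perm' _) hr

/-- **The row `A_n`.** -/
theorem fr_alt {S : Type u} [Group S] [Finite S] (h : Cfsg.IsAlternating S) : FR S :=
  fr_alt_of (fun N hN h hr => Cfsg.Agent.H839.FR.index_two N hN h hr) h

end Cfsg.Agent.H140.FR
end

-- part: H237/FR/Om
section
/-!
# TEAM SR part 2 (S4970), task FR-OM: orthogonal groups over fields of odd order (helper237)

* `IdxTwo` : the index two lemma (task FR-I2);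
* `fr_of_SO` : from `FSGood False (SO Q)` to `FR (POmega F Q)`;
* `so_of_odd`, `so_of_four` : `SO(Q)` from `O(Q)`.
-/

set_option autoImplicit false
set_option linter.unusedSectionVars false

universe u

namespace Cfsg.Agent.H237.FR

open QuadraticMap Module
open Cfsg.Agent.LieClassical.OrthCore Cfsg.Agent.LieClassical.OrthFinite Cfsg.Agent.LieClassical.OrthForms
open Cfsg.Agent.H160.QSpin Cfsg.Agent.H160.QDisc Cfsg.Agent.H160.QFinal Cfsg.Agent.H160.QSemi
open Cfsg.Agent.H721.SR Cfsg.Agent.H721.FR Cfsg.Agent.H955.FS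

/-- the index two lemma -/
def IdxTwo : Prop := ∀ (G : Type u) [Group G] [Finite G] (N : Subgroup G), N.index = 2 → FSGood False G →
  (∀ g : N, IsConj g g⁻¹) → FSGood False N

theorem good_of_dvd (hI : IdxTwo.{u}) {G : Type u} [Group G] [Finite G] (N : Subgroup G) (hN : N.index ∣ 2)
    (hG : FSGood False G) (hr : ∀ g : N, IsConj g g⁻¹) : FSGood False N := by
  rcases (Nat.dvd_prime Nat.prime_two).1 hN with h | h
  · rw [Subgroup.index_eq_one] at h
    subst h
    exact hG.of_mulEquiv Subgroup.topEquiv.symm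
  · exact hI G N h hG hr

theorem fr_center_quot (hI : IdxTwo.{u}) {Ω G : Type u} [Group Ω] [Finite Ω] [Group G] [Finite G] (f : Ω →* G)
    (Z : Subgroup G) [Z.Normal] (hZ : ∀ x : Ω, f x ∈ Z ↔ x ∈ Subgroup.center Ω) (hi : f.range.index ∣ 2)
    (hG : FSGood False G) : FR (Ω ⧸ Subgroup.center Ω) := by
  have hK : FSGood False (G ⧸ Z) := hG.of_surjective (QuotientGroup.mk' Z) (QuotientGroup.mk'_surjective Z)
  let φ : Ω →* G ⧸ Z := (QuotientGroup.mk' Z).comp f
  have hker : φ.ker = Subgroup.center Ω := by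
    ext x
    rw [← hZ x, MonoidHom.mem_ker]
    exact QuotientGroup.eq_one_iff _
  have hidx : φ.range.index ∣ 2 := by
    refine dvd_trans ?_ hi
    rw [show φ.range = f.range.map (QuotientGroup.mk' Z) from MonoidHom.range_comp _ f]
    exact Subgroup.index_map_dvd _ (QuotientGroup.mk'_surjective Z)
  let e : Ω ⧸ Subgroup.center Ω ≃* φ.range :=
    (QuotientGroup.quotientMulEquivOfEq hker.symm).trans (QuotientGroup.quotientKerEquivRange φ)
  refine FR.congr e.symm fun hr => good_of_dvd hI _ hidx hK hr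

section

variable {F : Type} [Field F] {V : Type} [AddCommGroup V] [Module F V]

theorem fin_gl (V : Type) [AddCommGroup V] [Module F V] [Finite V] : Finite (V ≃ₗ[F] V) :=
  Finite.of_injective (fun g : V ≃ₗ[F] V => (g : V → V)) DFunLike.coe_injective

/-- the special orthogonal group -/
noncomputable def SO (Q : QuadraticForm F V) : Subgroup (O Q) := (LinearEquiv.det.comp (O Q).subtype).ker

theorem mem_SO {Q : QuadraticForm F V} {g : O Q} : g ∈ SO Q ↔ LinearEquiv.det (g : V ≃ₗ[F] V) = 1 := Iff.rfl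

/-- the scalars in the orthogonal group -/
def Sc (Q : QuadraticForm F V) : Subgroup (O Q) where
  carrier := {g | ∃ c : F, (c = 1 ∨ c = -1) ∧ ∀ x, (g : V ≃ₗ[F] V) x = c • x}
  mul_mem' := by
    rintro a b ⟨c, hc, h⟩ ⟨d, hd, h'⟩
    refine ⟨c * d, ?_, fun x => ?_⟩
    · rcases hc with rfl | rfl <;> rcases hd with rfl | rfl <;> simp
    · show (a : V ≃ₗ[F] V) ((b : V ≃ₗ[F] V) x) = _
      rw [h', h, smul_smul]
  one_mem' := ⟨1, Or.inl rfl, fun x => (one_smul F x).symm⟩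
  inv_mem' := by
    rintro a ⟨c, hc, h⟩
    refine ⟨c, hc, fun x => ?_⟩
    have hcc : c * c = 1 := by rcases hc with rfl | rfl <;> simp
    apply (a : V ≃ₗ[F] V).injective
    rw [h (c • x), smul_smul, hcc, one_smul]
    exact (a : V ≃ₗ[F] V).apply_symm_apply x

instance sc_normal (Q : QuadraticForm F V) : (Sc Q).Normal where
  conj_mem := by
    rintro a ⟨c, hc, h⟩ g
    refine ⟨c, hc, fun x => ?_⟩
    show (g : V ≃ₗ[F] V) ((a : V ≃ₗ[F] V) ((g : V ≃ₗ[F] V).symm x)) = _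
    rw [h, map_smul, LinearEquiv.apply_symm_apply]

end

section

variable {F : Type} [Field F] [Finite F] {ι : Type} [Fintype ι] [DecidableEq ι]

/-- the embedding of `Omega` in `SO` -/
noncomputable def toSO (h2 : (2 : F) ≠ 0) {Q : QuadraticForm F (ι → F)} (hQ : Nondeg Q) (hd : 5 ≤ Fintype.card ι) :
    Cfsg.Omega F ⇑Q →* SO Q where
  toFun x := ⟨⟨lin Q x, (el_lin h2 hQ hd x).1⟩, (el_lin h2 hQ hd x).2.1⟩
  map_one' := Subtype.ext (Subtype.ext (map_one (lin Q)))
  map_mul' x y := Subtype.ext (Subtype.ext (map_mul (lin Q) x y))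

theorem lin_apply (Q : QuadraticForm F (ι → F)) (x : Cfsg.Omega F ⇑Q) (v : ι → F) :
    lin Q x v = (((x : Cfsg.isometryGroup F ⇑Q) : Matrix.GeneralLinearGroup ι F) : Matrix ι ι F).mulVec v := rfl

theorem toSO_mem (h2 : (2 : F) ≠ 0) {Q : QuadraticForm F (ι → F)} (hQ : Nondeg Q) (hd : 5 ≤ Fintype.card ι)
    (x : Cfsg.Omega F ⇑Q) :
    toSO h2 hQ hd x ∈ (Sc Q).comap (SO Q).subtype ↔ x ∈ Subgroup.center (Cfsg.Omega F ⇑Q) := by
  have hG := good_of_finite hQ (by rwa [finrank_fintype_fun_eq_card])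
  obtain ⟨w, hw0, hw⟩ := hG.sing
  rw [Cfsg.Agent.LieClassical.OrthCenter.mem_center_omega_iff (nondeg_bilin hQ) (by omega) ⟨w, hw0, hw⟩]
  have key : ∀ c : F, (∀ v, lin Q x v = c • v) ↔
      (((x : Cfsg.isometryGroup F ⇑Q) : Matrix.GeneralLinearGroup ι F) : Matrix ι ι F) = c • (1 : Matrix ι ι F) := by
    intro c
    constructor
    · intro h
      apply Matrix.mulVec_injective
      funext v
      rw [Matrix.smul_mulVec, Matrix.one_mulVec]
      exact h v
    · intro h v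
      rw [lin_apply, h, Matrix.smul_mulVec, Matrix.one_mulVec]
  constructor
  · rintro ⟨c, hc, h⟩
    have h' := (key c).1 h
    rcases hc with rfl | rfl
    · left; rw [h', one_smul]
    · right; rw [h', neg_smul, one_smul]
  · rintro (h | h)
    · exact ⟨1, Or.inl rfl, (key 1).2 (by rw [h, one_smul])⟩
    · exact ⟨-1, Or.inr rfl, (key (-1)).2 (by rw [h, neg_smul, one_smul])⟩

theorem index_toSO (h2 : (2 : F) ≠ 0) {Q : QuadraticForm F (ι → F)} (hQ : Nondeg Q) (hd : 5 ≤ Fintype.card ι) :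
    (toSO h2 hQ hd).range.index ∣ 2 := by
  have hr : (toSO h2 hQ hd).range = ((spin Q).comp (SO Q).subtype).ker := by
    ext g
    constructor
    · rintro ⟨x, rfl⟩
      rw [MonoidHom.mem_ker]
      exact (el_lin h2 hQ hd x).2.2
    · intro hg
      obtain ⟨x, hx⟩ := exists_lin h2 hQ hd (g := ((g : O Q) : (ι → F) ≃ₗ[F] (ι → F))) ⟨g.1.2, g.2, hg⟩
      exact ⟨x, Subtype.ext (Subtype.ext hx)⟩
  rw [hr, Subgroup.index_ker]
  have : Nat.card ℤˣ = 2 := by simp
  rw [← this]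
  exact Subgroup.card_subgroup_dvd_card _

/-- **From `SO(Q)` to `PΩ(Q)`.** -/
theorem fr_of_SO (hI : IdxTwo.{0}) (h2 : (2 : F) ≠ 0) {Q : QuadraticForm F (ι → F)} (hQ : Nondeg Q)
    (hd : 5 ≤ Fintype.card ι) (hSO : FSGood False (SO Q)) : FR (Cfsg.POmega F ⇑Q) :=
  have := fin_gl (F := F) (ι → F)
  fr_center_quot hI (toSO h2 hQ hd) ((Sc Q).comap (SO Q).subtype) (toSO_mem h2 hQ hd) (index_toSO h2 hQ hd) hSO

end

section

variable {F : Type} [Field F] [Finite F] {V : Type} [AddCommGroup V] [Module F V] [FiniteDimensional F V] [Finite V]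

/-- the scalar `a` -/
noncomputable def sc (V : Type) [AddCommGroup V] [Module F V] : Fˣ →* (V ≃ₗ[F] V) := DistribMulAction.toModuleAut F V

theorem sc_apply (a : Fˣ) (x : V) : sc V a x = (a : F) • x := rfl

theorem sc_comm (a : Fˣ) (g : V ≃ₗ[F] V) : sc V a * g = g * sc V a := by
  ext x
  show sc V a (g x) = g (sc V a x)
  rw [sc_apply, sc_apply, map_smul]

theorem det_sc (a : Fˣ) : LinearEquiv.det (sc V a) = a ^ finrank F V := by
  apply Units.ext
  rw [LinearEquiv.coe_det, Units.val_pow_eq_pow_val]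
  have : ((sc V a : V ≃ₗ[F] V) : V →ₗ[F] V) = (a : F) • LinearMap.id := by
    ext x
    rfl
  rw [this, LinearMap.det_smul, LinearMap.det_id, mul_one]

theorem det_or {Q : QuadraticForm F V} (hQ : Nondeg Q) (g : O Q) :
    LinearEquiv.det (g : V ≃ₗ[F] V) = 1 ∨ LinearEquiv.det (g : V ≃ₗ[F] V) = -1 := by
  have h := det_sq hQ g.2
  have h1 : ((LinearEquiv.det (g : V ≃ₗ[F] V) : Fˣ) : F) ^ 2 = 1 := by
    rw [← Units.val_pow_eq_pow_val, h, Units.val_one]
  rcases (show ((LinearEquiv.det (g : V ≃ₗ[F] V) : Fˣ) : F) = 1 ∨ ((LinearEquiv.det (g : V ≃ₗ[F] V) : Fˣ) : F) = -1 from by simpa only [_root_.LinearEquiv.coe_det, _root_.sq_eq_one_iff] using h1) with h2 | h2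
  · exact Or.inl (Units.ext h2)
  · exact Or.inr (Units.ext h2)

/-- the surjection `O → SO` in odd dimension -/
noncomputable def twist {Q : QuadraticForm F V} (hQ : Nondeg Q) (hodd : Odd (finrank F V)) : O Q →* SO Q where
  toFun g := ⟨⟨sc V (LinearEquiv.det (g : V ≃ₗ[F] V)) * (g : V ≃ₗ[F] V), by
      rw [mem_O]
      intro x
      show Q (((LinearEquiv.det (g : V ≃ₗ[F] V) : Fˣ) : F) • (g : V ≃ₗ[F] V) x) = _
      rw [QuadraticMap.map_smul, mem_O.1 g.2]
      rcases det_or hQ g with h | h <;> rw [h] <;> simp⟩, by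
      rw [mem_SO]
      show LinearEquiv.det (sc V _ * (g : V ≃ₗ[F] V)) = 1
      rw [map_mul, det_sc]
      rcases det_or hQ g with h | h
      · rw [h, one_pow, one_mul]
      · rw [h, hodd.neg_one_pow]
        simp⟩
  map_one' := by
    apply Subtype.ext
    apply Subtype.ext
    show sc V (LinearEquiv.det (1 : V ≃ₗ[F] V)) * (1 : V ≃ₗ[F] V) = 1
    rw [map_one, map_one, one_mul]
  map_mul' g h := by
    apply Subtype.ext
    apply Subtype.ext
    show sc V (LinearEquiv.det ((g : V ≃ₗ[F] V) * (h : V ≃ₗ[F] V))) * ((g : V ≃ₗ[F] V) * (h : V ≃ₗ[F] V)) =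
      (sc V (LinearEquiv.det (g : V ≃ₗ[F] V)) * (g : V ≃ₗ[F] V)) *
        (sc V (LinearEquiv.det (h : V ≃ₗ[F] V)) * (h : V ≃ₗ[F] V))
    rw [map_mul, map_mul, mul_assoc, mul_assoc]
    congr 1
    rw [← mul_assoc, ← mul_assoc, sc_comm]

/-- **odd dimension** -/
theorem so_of_odd {Q : QuadraticForm F V} (hQ : Nondeg Q) (hodd : Odd (finrank F V)) (hO : FSGood False (O Q)) :
    FSGood False (SO Q) := by
  have := fin_gl (F := F) V
  refine hO.of_surjective (twist hQ hodd) fun g => ⟨g, ?_⟩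
  apply Subtype.ext
  apply Subtype.ext
  show sc V (LinearEquiv.det ((g : O Q) : V ≃ₗ[F] V)) * ((g : O Q) : V ≃ₗ[F] V) = _
  rw [mem_SO.1 g.2, map_one, one_mul]

theorem index_SO {Q : QuadraticForm F V} (hQ : Nondeg Q) : (SO Q).index ∣ 2 := by
  have := fin_gl (F := F) V
  have := Fintype.ofFinite F
  rw [SO, Subgroup.index_ker]
  have hle : (LinearEquiv.det.comp (O Q).subtype).range ≤ Subgroup.zpowers (-1 : Fˣ) := by
    rintro _ ⟨g, rfl⟩
    rcases det_or hQ g with h | h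
    · exact ⟨0, (zpow_zero _).trans h.symm⟩
    · exact ⟨1, (zpow_one _).trans h.symm⟩
  refine (Subgroup.card_dvd_of_le hle).trans ?_
  rw [Nat.card_zpowers]
  exact orderOf_dvd_of_pow_eq_one (by simp only [_root_.even_two, _root_.Even.neg_pow, _root_.one_pow])

/-- **dimension divisible by four** -/
theorem so_of_real (hI : IdxTwo.{0}) {Q : QuadraticForm F V} (hQ : Nondeg Q) (hO : FSGood False (O Q))
    (hT : ∀ g ∈ O Q, ∃ s, T Q g 1 s) : FSGood False (SO Q) := by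
  have := fin_gl (F := F) V
  refine good_of_dvd hI _ (index_SO hQ) hO fun g => ?_
  obtain ⟨s, h, hO, -, hi, hdet, -⟩ := hT _ g.1.2
  rw [isConj_iff]
  exact ⟨⟨⟨h, hO⟩, hdet⟩, Subtype.ext (Subtype.ext hi)⟩

end

end Cfsg.Agent.H237.FR
end

-- part: H237/FR/Rows
section
/-!
# TEAM SR part 2 (S4970), task FR-OM: the rows of the orthogonal groups (helper237)

* `OGood` : all indicators of `O(Q)` are one (`Q` nondegenerate, odd order);
* `DetOne` : in dimension `4k` every isometry is inverted by an involutory isometry of determinant one;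
* `fr_odd`, `fr_plus`, `fr_minus` : odd order; `fr_oodd`, `fr_oplus`, `fr_ominus` : all orthogonal groups
  (the even rows are a hypothesis).
-/

set_option autoImplicit false
set_option linter.unusedSectionVars false

universe u v

namespace Cfsg.Agent.H237.FR

open QuadraticMap Module
open Cfsg.Agent.LieClassical.OrthCore Cfsg.Agent.LieClassical.OrthFinite Cfsg.Agent.LieClassical.OrthForms
open Cfsg.Agent.H160.QSpin Cfsg.Agent.H160.QDisc Cfsg.Agent.H160.QFinal Cfsg.Agent.H160.QSemi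
open Cfsg.Agent.H721.SR Cfsg.Agent.H721.FR Cfsg.Agent.H955.FS
open Cfsg

/-! ### change of universe -/

theorem fsi_equiv {G : Type u} {H : Type v} [Group G] [Group H] (e : G ≃* H) (χ : H → ℂ) :
    fsi (χ ∘ e) = fsi χ := by
  unfold fsi
  rw [Nat.card_congr e.toEquiv]
  congr 1
  rw [← finsum_comp_equiv e.toEquiv]
  refine finsum_congr fun s => ?_
  simp [Function.comp_apply, map_mul]

theorem good_lift {G : Type u} {H : Type v} [Group G] [Group H] [Finite G] (e : G ≃* H) {w : Prop}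
    (h : FSGood w G) : FSGood w H := by
  intro χ hχ
  have h1 := h (χ ∘ e) (Cfsg.Agent.Characters.Core.isIrr_comp e.toMonoidHom e.surjective hχ)
  rwa [fsi_equiv] at h1

theorem fr_lift {G : Type u} {H : Type v} [Group G] [Group H] [Finite G] (e : G ≃* H) (h : FR G) : FR H := by
  intro hr
  refine good_lift e (h fun g => ?_)
  obtain ⟨x, hx⟩ := isConj_iff.1 (hr (e g))
  refine isConj_iff.2 ⟨e.symm x, e.injective ?_⟩
  simpa only [_root_.map_mul, _root_.MulEquiv.apply_symm_apply, _root_.map_inv] using hx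

/-! ### odd order -/

/-- all indicators of the orthogonal groups are one -/
def OGood : Prop := ∀ (F V : Type) [Field F] [Finite F] [AddCommGroup V] [Module F V] [FiniteDimensional F V]
  (Q : QuadraticForm F V), (2 : F) ≠ 0 → Nondeg Q → FSGood False (O Q)

/-- inverters of determinant one -/
def DetOne : Prop := ∀ (F V : Type) [Field F] [Finite F] [AddCommGroup V] [Module F V] [FiniteDimensional F V]
  [Finite V] (Q : QuadraticForm F V), (2 : F) ≠ 0 → Nondeg Q → 4 ∣ finrank F V → ∀ g ∈ O Q, ∃ s, T Q g 1 s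

section

variable {F : Type} [Field F] [Fintype F]

theorem fr_odd (hI : IdxTwo.{0}) (hO : OGood) (hF : Odd (Fintype.card F)) {m : ℕ} (hm : 2 ≤ m) :
    FR (Cfsg.POmega F (Cfsg.quadFormOdd m F)) := by
  classical
  have h2 : (2 : F) ≠ 0 := Cfsg.Agent.H164.SRO.two_ne hF
  rw [← coe_oddForm m F]
  have hQ := nondeg_oddForm m F h2
  refine fr_of_SO hI h2 hQ (by simp only [_root_.Fintype.card_sum, _root_.Fintype.card_unique, _root_.Fintype.card_fin]; omega) (so_of_odd hQ ?_ (hO _ _ _ h2 hQ))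
  rw [Module.finrank_fintype_fun_eq_card]
  simp only [Fintype.card_sum, Fintype.card_fin, Fintype.card_unit]
  exact ⟨m, by ring⟩

theorem fr_plus (hI : IdxTwo.{0}) (hO : OGood) (hT : DetOne) (hF : Odd (Fintype.card F)) {n : ℕ} (hn : 2 ≤ n) :
    FR (Cfsg.POmega F (Cfsg.quadFormPlus (2 * n) F)) := by
  classical
  have h2 : (2 : F) ≠ 0 := Cfsg.Agent.H164.SRO.two_ne hF
  rw [← coe_plusForm (2 * n) F]
  have hQ := nondeg_plusForm (2 * n) F
  refine fr_of_SO hI h2 hQ (by simp only [_root_.Fintype.card_sum, _root_.Fintype.card_fin]; omega) (so_of_real hI hQ (hO _ _ _ h2 hQ) (hT _ _ _ h2 hQ ?_))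
  rw [Module.finrank_fintype_fun_eq_card]
  simp only [Fintype.card_sum, Fintype.card_fin]
  exact ⟨n, by ring⟩

theorem fr_minus (hI : IdxTwo.{0}) (hO : OGood) (hT : DetOne) (hF : Odd (Fintype.card F)) {n : ℕ} (hn : 2 ≤ n)
    {a b : F} (hab : ∀ z₁ z₂ : F, z₁ ^ 2 + a * z₁ * z₂ + b * z₂ ^ 2 = 0 → z₁ = 0 ∧ z₂ = 0) :
    FR (Cfsg.POmega F (Cfsg.quadFormMinus (2 * n - 1) F a b)) := by
  classical
  have h2 : (2 : F) ≠ 0 := Cfsg.Agent.H164.SRO.two_ne hF
  rw [← coe_minusForm (2 * n - 1) F]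
  have hQ := nondeg_minusForm (2 * n - 1) F a b hab
  refine fr_of_SO hI h2 hQ (by simp only [_root_.Fintype.card_sum, _root_.Fintype.card_fin, _root_.Nat.reduceLeDiff]; omega) (so_of_real hI hQ (hO _ _ _ h2 hQ) (hT _ _ _ h2 hQ ?_))
  rw [Module.finrank_fintype_fun_eq_card]
  simp only [Fintype.card_sum, Fintype.card_fin]
  exact ⟨n, by omega⟩

end

/-! ### the families -/

/-- **`PΩ_{2m+1}(q)`, `q` odd, `m ≥ 3`.** -/
theorem fr_oodd {S : Type u} [Group S] (h : Cfsg.IsPOmegaOdd S) (hI : IdxTwo.{0}) (hO : OGood) : FR S := by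
  obtain ⟨F, _, _, m, hm, hF, ⟨e⟩⟩ := h
  exact fr_lift e.symm (fr_odd hI hO hF (by omega))

/-- **`PΩ⁺_{2m}(q)`, `m ≥ 4`.** -/
theorem fr_oplus {S : Type u} [Group S] (h : Cfsg.IsPOmegaPlus S) (hI : IdxTwo.{0}) (hO : OGood) (hT : DetOne)
    (heven : ∀ (F : Type) [Field F] [Fintype F] (n : ℕ), 2 ≤ n → Even (Fintype.card F) →
      FR (Cfsg.POmega F (Cfsg.quadFormPlus (2 * n) F))) : FR S := by
  obtain ⟨F, _, _, m, hm, ⟨e⟩⟩ := h
  refine fr_lift e.symm ?_
  rcases Nat.even_or_odd m with hme | hmo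
  · obtain ⟨n, rfl⟩ := even_iff_two_dvd.1 hme
    rcases Nat.even_or_odd (Fintype.card F) with hF | hF
    · exact heven F n (by omega) hF
    · exact fr_plus hI hO hT hF (by omega)
  · exact FR.of_nrel (Cfsg.Agent.H105.Rl.nrel_plus (by obtain ⟨c, rfl⟩ := hmo; omega) hmo)

/-- **`PΩ⁻_{2m}(q)`, `m ≥ 4`.** -/
theorem fr_ominus {S : Type u} [Group S] (h : Cfsg.IsPOmegaMinus S) (hI : IdxTwo.{0}) (hO : OGood) (hT : DetOne)
    (heven : ∀ (F : Type) [Field F] [Fintype F] (n : ℕ) (a b : F), 2 ≤ n → Even (Fintype.card F) →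
      (∀ z₁ z₂ : F, z₁ ^ 2 + a * z₁ * z₂ + b * z₂ ^ 2 = 0 → z₁ = 0 ∧ z₂ = 0) →
      FR (Cfsg.POmega F (Cfsg.quadFormMinus (2 * n - 1) F a b))) : FR S := by
  obtain ⟨F, _, _, m, a, b, hm, hab, ⟨e⟩⟩ := h
  refine fr_lift e.symm ?_
  rcases Nat.even_or_odd m with hme | hmo
  · obtain ⟨n, rfl⟩ := even_iff_two_dvd.1 hme
    rcases Nat.even_or_odd (Fintype.card F) with hF | hF
    · exact heven F n a b (by omega) hF hab
    · exact fr_minus hI hO hT hF (by omega) hab
  · exact FR.of_nrel (Cfsg.Agent.H105.Rl.nrel_minus (by obtain ⟨c, rfl⟩ := hmo; omega) hmo hab)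

end Cfsg.Agent.H237.FR
end

-- part: H237/FR/DetOne
section
/-!
# TEAM SR part 2 (S4970), task FR-OM: inverters of determinant one in dimension `4k` (helper237)

From the decomposition theorem of helper853.
-/

set_option autoImplicit false

namespace Cfsg.Agent.H237.FR

open QuadraticMap Module
open Cfsg.Agent.LieClassical.OrthCore Cfsg.Agent.H160.QSpin Cfsg.Agent.H160.QDisc
open Cfsg.Agent.H853.SR

/-- in dimension odd or divisible by four: an involution of determinant one inverting `g` -/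
theorem exists_T {F : Type} [Field F] [Fintype F] [DecidableEq F] (h2 : (2 : F) ≠ 0) (hA : HypA.{0, 0} F)
    (hE : HypE.{0, 0} F) (hT : HypJT.{0, 0} F) (hU : HypJU.{0, 0} F) (V : Type) [AddCommGroup V] [Module F V]
    [Finite V] (Q : QuadraticForm F V) (hQ : Nondeg Q) (hn : Odd (finrank F V) ∨ 4 ∣ finrank F V)
    (g : V ≃ₗ[F] V) (hg : g ∈ O Q) : ∃ s, Cfsg.Agent.H721.SR.T Q g 1 s := by
  have hJ := jHyp.{0, 0} hT hU
  have hP := exists_piece.{0, 0} h2 hA hE
  let X : Tri.{0, 0} F := ⟨V, Q, g, hQ, hg⟩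
  rcases main h2 hJ hP X hn with h | ⟨c, j, L, -, h⟩
  · exact ⟨1, h⟩
  · exact ⟨_, h.t h2 hJ⟩

theorem detOne_of (hH : ∀ (F : Type) [Field F] [Fintype F] [DecidableEq F], (2 : F) ≠ 0 →
    HypA.{0, 0} F ∧ HypE.{0, 0} F ∧ HypJT.{0, 0} F ∧ HypJU.{0, 0} F) : DetOne := by
  classical
  intro F V _ _ _ _ _ _ Q h2 hQ h4 g hg
  have := Fintype.ofFinite F
  obtain ⟨hA, hE, hT, hU⟩ := hH F h2
  exact exists_T h2 hA hE hT hU V Q hQ (Or.inr h4) g hg

end Cfsg.Agent.H237.FR
end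

-- part: H825/FR/Even
section
/-!
# S4970: the rows `PSL_n(q)`, `PSp_2m(q)`, `PΩ^±_4m(q)` (`q` even) (helper825)

* `FR.transfer` : `FR` under isomorphisms between groups in different universes;
* `good_of_fsz` : from `FSZ z` to a quotient by a subgroup containing `z`;
* `fr_psl`, `fr_psp` : from `Hyp`; `fr_plus_even`, `fr_minus_even`.
-/

set_option autoImplicit false

universe u v

namespace Cfsg.Agent.H825.FR

open Cfsg Cfsg.Agent.H955.FS Cfsg.Agent.H721.SR Cfsg.Agent.H721.FR Module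
open Cfsg.Agent.Characters.Core
open scoped Matrix

/-! ### Transfer between universes -/

theorem fsi_equiv {G : Type u} {H : Type v} [Group G] [Group H] (e : G ≃* H) (χ : H → ℂ) :
    fsi (χ ∘ e) = fsi χ := by
  unfold fsi
  rw [Nat.card_congr e.toEquiv]
  congr 1
  rw [← finsum_comp_equiv e.toEquiv]
  refine finsum_congr fun s => ?_
  show χ (e (s * s)) = χ (e s * e s)
  rw [map_mul]

theorem good_transfer {G : Type u} {H : Type v} [Group G] [Group H] (e : G ≃* H) {w : Prop}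
    (h : FSGood w G) : FSGood w H := by
  intro χ hχ
  have h1 := h (χ ∘ e) (isIrr_comp e.toMonoidHom e.surjective hχ)
  rwa [fsi_equiv] at h1

theorem fr_transfer {G : Type u} {H : Type v} [Group G] [Group H] (e : G ≃* H) (h : FR G) :
    FR H := by
  intro hr
  refine good_transfer e (h fun g => ?_)
  obtain ⟨x, hx⟩ := isConj_iff.1 (hr (e g))
  refine isConj_iff.2 ⟨e.symm x, e.injective ?_⟩
  simpa only [_root_.map_mul, _root_.MulEquiv.apply_symm_apply, _root_.map_inv] using hx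

/-! ### Quotients -/

theorem good_of_fsz {G H : Type u} [Group G] [Group H] [Finite G] (f : G →* H)
    (hf : Function.Surjective f) {z : G} (hz : f z = 1) (h : FSZ z) : FSGood True H := by
  have : Finite H := Finite.of_surjective f hf
  intro χ hχ
  have h1 := isIrr_comp f hf hχ
  have h2 := h _ h1
  rw [fsi_comp f hf] at h2
  rcases fsi_cases hχ with h3 | h3 | h3
  · exact Or.inr ⟨trivial, h3⟩
  · exact Or.inl h3
  · exfalso
    apply h2
    rw [h3]
    show -1 * χ (f z) = - χ (f 1)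
    rw [hz, map_one]
    ring

/-! ### The symplectic form -/

section Sp

variable (m : ℕ) (F : Type u) [Field F]

/-- the symplectic form as a bilinear map -/
noncomputable def BS : (Fin m ⊕ Fin m → F) →ₗ[F] (Fin m ⊕ Fin m → F) →ₗ[F] F :=
  Matrix.toLinearMap₂' F (Matrix.J (Fin m) F)

variable {m F}

theorem BS_apply (x y : Fin m ⊕ Fin m → F) : BS m F x y = Cfsg.sympForm m F x y := by
  unfold BS Cfsg.sympForm
  rw [Matrix.toLinearMap₂'_apply']

theorem BS_symm (x y : Fin m ⊕ Fin m → F) : BS m F x y = -1 * BS m F y x := by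
  rw [BS_apply, BS_apply, Symp.sympForm_eq, Symp.sympForm_eq, Finset.mul_sum]
  refine Finset.sum_congr rfl fun i _ => ?_
  ring

theorem BS_nondeg (x : Fin m ⊕ Fin m → F) (h : ∀ y, BS m F x y = 0) : x = 0 := by
  by_contra hne
  obtain ⟨y, hy⟩ := S0765.form_nondeg x hne
  apply hy
  rw [← BS_apply, BS_symm, h y, mul_zero]

theorem fm [Fintype F] (hF : Fintype.card F % 4 = 1) : Fm (BS m F) (-1) where
  two := by
    intro h2
    have : CharP F 2 := CharTwo.of_one_ne_zero_of_two_eq_zero one_ne_zero h2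
    have h3 := FiniteField.even_card_iff_char_two.1 (ringChar.eq F 2)
    omega
  eps := Or.inr ⟨rfl, by rw [Nat.card_eq_fintype_card]; exact hF⟩
  symm := BS_symm
  nondeg := BS_nondeg

theorem form_mulVec (A : Matrix.symplecticGroup (Fin m) F) (x y : Fin m ⊕ Fin m → F) :
    Cfsg.sympForm m F (A.1 *ᵥ x) (A.1 *ᵥ y) = Cfsg.sympForm m F x y := by
  have h1 : (A.1)ᵀ * Matrix.J (Fin m) F * A.1 = Matrix.J (Fin m) F := SymplecticGroup.mem_iff'.1 A.2
  unfold Cfsg.sympForm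
  rw [← Matrix.vecMul_transpose, ← Matrix.dotProduct_mulVec, Matrix.mulVec_mulVec,
    Matrix.mulVec_mulVec, h1]

/-- the homomorphism onto the symplectic group -/
noncomputable def toSp : Isom (BS m F) →* Matrix.symplecticGroup (Fin m) F where
  toFun g := ⟨LinearMap.toMatrix' (g.1 : (Fin m ⊕ Fin m → F) →ₗ[F] _), Symp.mem_symplectic _ (by
    intro x y
    rw [← BS_apply, ← BS_apply]
    exact g.2 x y)⟩
  map_one' := by
    apply Subtype.ext
    exact LinearMap.toMatrix'_id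
  map_mul' g h := by
    apply Subtype.ext
    exact LinearMap.toMatrix'_comp _ _

theorem toSp_surjective : Function.Surjective (toSp (m := m) (F := F)) := by
  intro A
  let g : (Fin m ⊕ Fin m → F) ≃ₗ[F] (Fin m ⊕ Fin m → F) :=
    LinearEquiv.ofLinearMap (Matrix.toLin' A.1) (Matrix.toLin' (A⁻¹).1)
      (by
        rw [← Matrix.toLin'_mul]
        have h : A.1 * (A⁻¹).1 = 1 := congrArg Subtype.val (mul_inv_cancel A)
        rw [h, Matrix.toLin'_one])
      (by
        rw [← Matrix.toLin'_mul]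
        have h : (A⁻¹).1 * A.1 = 1 := congrArg Subtype.val (inv_mul_cancel A)
        rw [h, Matrix.toLin'_one])
  have hg : g ∈ Isom (BS m F) := by
    intro x y
    rw [BS_apply, BS_apply]
    exact form_mulVec A x y
  refine ⟨⟨g, hg⟩, ?_⟩
  apply Subtype.ext
  show LinearMap.toMatrix' (g : (Fin m ⊕ Fin m → F) →ₗ[F] _) = A.1
  have h : (g : (Fin m ⊕ Fin m → F) →ₗ[F] _) = Matrix.toLin' A.1 := rfl
  rw [h, LinearMap.toMatrix'_toLin']

/-- `PSp_2m(q)`, `q ≡ 1 mod 4` -/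
theorem good_psp_one [Fintype F] (hyp : ∀ n, Hyp.{u} n) (hF : Fintype.card F % 4 = 1) :
    ∀ {H : Type u} [Group H] (f : Matrix.symplecticGroup (Fin m) F →* H),
      Function.Surjective f → (∀ z : Matrix.symplecticGroup (Fin m) F, z.1 = -1 → f z = 1) →
      FSGood True H := by
  intro H _ f hf hz
  have hfm := fm (m := m) hF
  obtain ⟨hmem, h⟩ := hyp _ F (Fin m ⊕ Fin m → F) (BS m F) (-1) hfm rfl
  have : Finite ((Fin m ⊕ Fin m → F) ≃ₗ[F] (Fin m ⊕ Fin m → F)) :=
    Finite.of_injective (fun g => (g : (Fin m ⊕ Fin m → F) → (Fin m ⊕ Fin m → F)))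
      DFunLike.coe_injective
  refine good_of_fsz (f.comp toSp) (hf.comp toSp_surjective) ?_ h
  show f (toSp ⟨zel _ (-1), hmem⟩) = 1
  apply hz
  show LinearMap.toMatrix' ((zel (Fin m ⊕ Fin m → F) (-1 : F)).toLinearMap) = -1
  have h1 : ¬ (-1 : F) = 1 := by
    intro h1
    apply hfm.two
    linear_combination -h1
  unfold zel
  rw [if_neg h1]
  have h2 : (LinearEquiv.neg F : (Fin m ⊕ Fin m → F) ≃ₗ[F] (Fin m ⊕ Fin m → F)).toLinearMap =
      -LinearMap.id := rfl
  rw [h2, map_neg, LinearMap.toMatrix'_id]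

/-- `Sp_2m(q)`, `q` even -/
theorem good_sp_even [Fintype F] [CharP F 2] :
    FSGood False (Matrix.symplecticGroup (Fin m) F) :=
  Cfsg.Agent.H955.FS.symplectic_of_T2_of
    (fun f hf h => Cfsg.Agent.H955.FS.FSGood.of_surjective f hf h)
    (fun k => (Cfsg.Agent.H955.FS.all k).2.2.1) (F := F) m

end Sp

/-! ### The rows `PSp_2m(q)` and `PSL_n(q)` -/

/-- `Sp₂ = SL₂` -/
def spTwo (F : Type u) [Field F] :
    Matrix.symplecticGroup (Fin 1) F ≃* Matrix.SpecialLinearGroup (Fin 2) F where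
  toFun A := ⟨Matrix.reindex finSumFinEquiv finSumFinEquiv
      (A : Matrix (Fin 1 ⊕ Fin 1) (Fin 1 ⊕ Fin 1) F), by
    rw [Matrix.det_reindex_self]
    exact (S0244.result _).1 A.2⟩
  invFun A := ⟨Matrix.reindex finSumFinEquiv.symm finSumFinEquiv.symm
      (A : Matrix (Fin 2) (Fin 2) F), by
    rw [S0244.result, Matrix.det_reindex_self]
    exact A.2⟩
  left_inv A := by
    apply Subtype.ext
    ext i j
    simp
  right_inv A := by
    apply Subtype.ext
    ext i j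
    simp
  map_mul' A B := by
    apply Subtype.ext
    change Matrix.reindex finSumFinEquiv finSumFinEquiv (A.1 * B.1) =
      Matrix.reindex finSumFinEquiv finSumFinEquiv A.1 *
        Matrix.reindex finSumFinEquiv finSumFinEquiv B.1
    rw [Matrix.reindex_apply, Matrix.reindex_apply, Matrix.reindex_apply, Matrix.submatrix_mul_equiv]

theorem card_cases (F : Type u) [Field F] [Fintype F] :
    CharP F 2 ∨ Fintype.card F % 4 = 1 ∨ Fintype.card F % 4 = 3 := by
  by_cases h : ringChar F = 2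
  · exact Or.inl (ringChar.of_eq h)
  · have h1 : Fintype.card F % 2 ≠ 0 := fun h1 => h (FiniteField.even_card_iff_char_two.2 h1)
    omega

theorem neg_one_central {m : ℕ} {F : Type u} [Field F] (z : Matrix.symplecticGroup (Fin m) F)
    (hz : z.1 = -1) : z ∈ Subgroup.center (Matrix.symplecticGroup (Fin m) F) := by
  rw [Subgroup.mem_center_iff]
  intro g
  apply Subtype.ext
  show g.1 * z.1 = z.1 * g.1
  rw [hz, mul_neg, mul_one, neg_mul, one_mul]

theorem fr_psp' (hyp : ∀ n, Hyp.{u} n) {F : Type u} [Field F] [Fintype F] {m : ℕ} (h3 :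
    Fintype.card F % 4 = 3 → NRel (PSp m F)) : FR (PSp m F) := by
  rcases card_cases F with h | h | h
  · exact FR.of_good' (good_sp_even.of_surjective (QuotientGroup.mk' _)
      (QuotientGroup.mk'_surjective _))
  · exact FR.of_good (good_psp_one hyp h (QuotientGroup.mk' _) (QuotientGroup.mk'_surjective _)
      fun z hz => (QuotientGroup.eq_one_iff _).2 (neg_one_central z hz))
  · exact FR.of_nrel (h3 h)

/-- **the rows `PSp_2m(q)`** -/
theorem fr_psp (hyp : ∀ n, Hyp.{0} n) {S : Type u} [Group S] (h : Cfsg.IsPSp S) : FR S := by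
  obtain ⟨F, _, _, m, hm, -, ⟨e⟩⟩ := h
  exact fr_transfer e.symm (fr_psp' hyp fun h3 =>
    Cfsg.Agent.H893.SR.nrel_psp (by omega) h3)

theorem fr_psl_two (hyp : ∀ n, Hyp.{0} n) {F : Type} [Field F] [Fintype F] :
    FR (Matrix.ProjectiveSpecialLinearGroup (Fin 2) F) := by
  let f : Matrix.symplecticGroup (Fin 1) F →* Matrix.ProjectiveSpecialLinearGroup (Fin 2) F :=
    (QuotientGroup.mk' (Subgroup.center (Matrix.SpecialLinearGroup (Fin 2) F))).comp
      (spTwo F).toMonoidHom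
  have hf : Function.Surjective f :=
    (QuotientGroup.mk'_surjective _).comp (spTwo F).surjective
  have : Finite (Matrix.ProjectiveSpecialLinearGroup (Fin 2) F) := Finite.of_surjective f hf
  rcases card_cases F with h | h | h
  · exact FR.of_good' ((good_sp_even (m := 1)).of_surjective f hf)
  · refine FR.of_good (good_psp_one hyp h f hf fun z hz => ?_)
    refine (QuotientGroup.eq_one_iff _).2 ?_
    have hc := neg_one_central z hz
    rw [Subgroup.mem_center_iff] at hc ⊢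
    intro g
    obtain ⟨g, rfl⟩ := (spTwo F).surjective g
    show spTwo F g * spTwo F z = spTwo F z * spTwo F g
    rw [← map_mul, ← map_mul, hc]
  · refine FR.of_nrel (Cfsg.Agent.H327.SR.nrel_two ?_)
    rw [FiniteField.isSquare_neg_one_iff]
    exact fun h1 => h1 h

/-- **the rows `PSL_n(q)`** -/
theorem fr_psl (hyp : ∀ n, Hyp.{0} n) {S : Type u} [Group S] (h : Cfsg.IsPSL S) : FR S := by
  obtain ⟨F, _, _, n, hn, -, ⟨e⟩⟩ := h
  refine fr_transfer e.symm ?_
  obtain rfl | hn := hn.eq_or_lt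
  · exact fr_psl_two hyp
  · obtain ⟨m, rfl⟩ := Nat.exists_eq_add_of_lt hn
    have : 2 + m + 1 = 3 + m := by ring
    rw [this]
    exact FR.of_nrel (Cfsg.Agent.H327.SR.nrel_three m)

/-! ### The rows `PΩ^±_4m(q)`, `q` even -/

theorem good_plus_even {F : Type u} [Field F] [Fintype F] [CharP F 2] {m : ℕ} (hm : 4 ≤ m)
    (he : Even m) : FSGood False (POmega F (quadFormPlus m F)) := by
  obtain ⟨k, rfl⟩ := he
  have h1 : k + k = 2 * k := by ring
  rw [h1]
  have h2 : FSGood False (Omega F (quadFormPlus (2 * k) F)) := fun χ hχ =>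
    Or.inl ((S4973.result (F := F) k (by omega)).1 ⟨χ, hχ⟩)
  exact h2.of_surjective (QuotientGroup.mk' _) (QuotientGroup.mk'_surjective _)

theorem good_minus_even {F : Type u} [Field F] [Fintype F] [CharP F 2] {m : ℕ} (hm : 4 ≤ m)
    (he : Even m) {a b : F} (hab : ∀ z₁ z₂ : F, z₁ ^ 2 + a * z₁ * z₂ + b * z₂ ^ 2 = 0 →
      z₁ = 0 ∧ z₂ = 0) : FSGood False (POmega F (quadFormMinus (m - 1) F a b)) := by
  obtain ⟨k, rfl⟩ := he
  have h1 : k + k = 2 * k := by ring
  rw [h1]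
  have h2 : FSGood False (Omega F (quadFormMinus (2 * k - 1) F a b)) := fun χ hχ =>
    Or.inl ((S4973.result (F := F) k (by omega)).2 a b hab ⟨χ, hχ⟩)
  exact h2.of_surjective (QuotientGroup.mk' _) (QuotientGroup.mk'_surjective _)

/-- **the rows `PΩ⁺_2m(q)`, `m` and `q` even** -/
theorem fr_plus_even {S : Type u} [Group S] {F : Type v} [Field F] [Fintype F] [CharP F 2]
    {m : ℕ} (hm : 4 ≤ m) (he : Even m) (e : S ≃* POmega F (quadFormPlus m F)) : FR S :=
  fr_transfer e.symm (FR.of_good' (good_plus_even hm he))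

/-- **the rows `PΩ⁻_2m(q)`, `m` and `q` even** -/
theorem fr_minus_even {S : Type u} [Group S] {F : Type v} [Field F] [Fintype F] [CharP F 2]
    {m : ℕ} (hm : 4 ≤ m) (he : Even m) {a b : F}
    (hab : ∀ z₁ z₂ : F, z₁ ^ 2 + a * z₁ * z₂ + b * z₂ ^ 2 = 0 → z₁ = 0 ∧ z₂ = 0)
    (e : S ≃* POmega F (quadFormMinus (m - 1) F a b)) : FR S :=
  fr_transfer e.symm (FR.of_good' (good_minus_even hm he hab))

end Cfsg.Agent.H825.FR
end

-- part: H778/FR/Fin
section
/-!
# S4970 (FR-FIN, helper778): the rows from the induction statement `Hyp` and the rows `³D₄(q)`, `J₁`, `J₂`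
-/

set_option autoImplicit false

namespace Cfsg.Agent.H778.FRF

open Cfsg Cfsg.Lie Cfsg.Agent.H955.FS Cfsg.Agent.H721.FR Cfsg.Agent.H721.SR
open Cfsg.Agent.H237.FR

theorem idxTwo : IdxTwo.{0} := fun _ _ _ N h1 h2 h3 => Cfsg.Agent.H839.FR.index_two N h1 h2 h3

theorem charP_two {F : Type} [Field F] [Fintype F] (h : Even (Fintype.card F)) : CharP F 2 := by
  obtain ⟨p, hp⟩ := CharP.exists F
  obtain ⟨n, hpp, hc⟩ := FiniteField.card F p
  rw [hc] at h
  have h1 : 2 ∣ p := Nat.prime_two.dvd_of_dvd_pow h.two_dvd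
  have h2 : 2 = p := (Nat.prime_dvd_prime_iff_eq Nat.prime_two hpp).1 h1
  rw [h2]
  exact hp

theorem oGood (hyp : ∀ n : ℕ, Hyp.{0} n) : OGood := fun _ _ _ _ _ _ _ _ h2 hQ =>
  Cfsg.Agent.H659.FRAsm.fsGood_false_O hyp h2 hQ

theorem detOne : DetOne := detOne_of fun F _ _ _ h2 =>
  ⟨Cfsg.Agent.H721.SRDec.hypA F h2, Cfsg.Agent.H721.SRDec.hypE F h2, Cfsg.Agent.H382.SRJ.hypJT F h2,
    Cfsg.Agent.H382.SRJ.hypJU F h2⟩

/-- all rows -/
theorem rows (hyp : ∀ n : ℕ, Hyp.{0} n)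
    (j1 : ∀ {S : Type} [Group S] [Finite S], Spor.IsoJ1 S → FR S)
    (j2 : ∀ {S : Type} [Group S] [Finite S], Spor.IsoJ2 S → FR S) : Rows where
  alt h := Cfsg.Agent.H140.FR.fr_alt h
  psl h := Cfsg.Agent.H825.FR.fr_psl hyp h
  psp h := Cfsg.Agent.H825.FR.fr_psp hyp h
  psu h := fr_psu h
  oodd h := fr_oodd h idxTwo (oGood hyp)
  oplus h := fr_oplus h idxTwo (oGood hyp) detOne fun F _ _ n hn hF => by
    have := charP_two hF
    exact Cfsg.Agent.H825.FR.fr_plus_even (by omega) (even_two_mul n) (MulEquiv.refl _)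
  ominus h := fr_ominus h idxTwo (oGood hyp) detOne fun F _ _ n a b hn hF hab => by
    have := charP_two hF
    exact Cfsg.Agent.H825.FR.fr_minus_even (by omega) (even_two_mul n) hab (MulEquiv.refl _)
  g2 h := fr_g2 h
  f4 h := fr_f4 h
  e6 h := fr_e6 h
  e7 h := fr_e7 h
  e8 h := fr_e8 h
  te6 h := fr_2e6 h
  td4 h := Cfsg.Agent.H168.FRHex.Rows.fr_3d4 h
  sz h := fr_sz h
  ree h := fr_ree h
  tf4 h := fr_2f4 h
  tits h := fr_tits h
  spor h := fr_spor_of j1 j2 h

end Cfsg.Agent.H778.FRF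
end

private theorem dce_e5bdcdd855dd : _root_.True := by
  try have : _root_.True := by simp only [_root_.Cfsg.Agent.H237.FR.SO.eq_1]
  exact _root_.True.intro
end
end
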